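import Cfsg.Agent.Lib.SubgroupCountSq.Main
import Cfsg.Agent.Lib.Coprime.Conjugacy

/-!
# Subgroups of order `p ^ a` outside a Sylow subgroup are a multiple of `p ^ 2`
-/

set_option autoImplicit false

namespace Cfsg.Agent.Lib.SubgroupCountSq

open Cfsg.Agent.Lib
open scoped Pointwise

theorem dvd_sum_of_orbits {H α : Type*} [Group H] [Finite H] [MulAction H α] [Fintype α]
    (w : α → ℕ) (hw : ∀ (h : H) (a : α), w (h • a) = w a) (d : ℕ)
    (hd : ∀ a, d ∣ (MulAction.stabilizer H a).index * w a) : d ∣ ∑ a, w a := by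
  classical
  rw [← (MulAction.selfEquivSigmaOrbits H α).symm.sum_comp w, Fintype.sum_sigma]
  refine Finset.dvd_sum fun ω _ => ?_
  rw [Finset.sum_congr rfl fun x _ => show w ((MulAction.selfEquivSigmaOrbits H α).symm ⟨ω, x⟩) =
    w ω.out from ?_, Finset.sum_const, Finset.card_univ, smul_eq_mul]
  · refine (hd ω.out).trans (dvd_of_eq ?_)
    rw [MulAction.index_stabilizer, ← Set.fintypeCard_eq_ncard]
  · obtain ⟨h, hh⟩ := x.2
    have : (MulAction.selfEquivSigmaOrbits H α).symm ⟨ω, x⟩ = h • ω.out := hh.symm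
    rw [this, hw]

variable {G : Type*} [Group G] [Finite G] {p : ℕ} [hp : Fact p.Prime]

/-- `R` normalising `H` as an element of the conjugation action. -/
noncomputable local instance conjAct (R : Subgroup G) : MulAction R (Subgroup G) :=
  MulAction.compHom _ (MulAut.conj.comp R.subtype)

theorem conj_smul_def (R : Subgroup G) (r : R) (H : Subgroup G) :
    r • H = MulAut.conj (r : G) • H := rfl

theorem mem_stabilizer_conj {R : Subgroup G} {r : R} {H : Subgroup G} :
    r ∈ MulAction.stabilizer R H ↔ (r : G) ∈ Subgroup.normalizer (H : Set G) := by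
  rw [MulAction.mem_stabilizer_iff, conj_smul_def]
  exact ⟨Coprime.mem_normalizer_of_conj_smul_eq, Coprime.conj_smul_eq_self_of_mem_normalizer⟩

theorem cnt_modEq_sylow (P : Sylow p G) {a n : ℕ} (hPn : Nat.card (P : Subgroup G) = p ^ n)
    (han : a < n) : cnt G (p ^ a) ≡ cnt (P : Subgroup G) (p ^ a) [MOD p ^ 2] := by
  classical
  have hpp : p.Prime := hp.out
  have := Fintype.ofFinite (Subgroup G)
  let R : Subgroup G := P
  have hRp : IsPGroup p R := P.2
  -- `X`: the subgroups outside `P`
  let X := {H : Subgroup G // Nat.card H = p ^ a ∧ ¬ H ≤ R}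
  have hmove : ∀ (r : R) (H : Subgroup G), (Nat.card H = p ^ a ∧ ¬ H ≤ R) →
      (Nat.card (r • H : Subgroup G) = p ^ a ∧ ¬ r • H ≤ R) := by
    intro r H h
    rw [conj_smul_def, Coprime.card_conj_smul]
    refine ⟨h.1, fun hle => h.2 fun x hx => ?_⟩
    have := hle (Subgroup.smul_mem_pointwise_smul x (MulAut.conj (r : G)) H hx)
    simpa [mul_assoc] using R.mul_mem (R.mul_mem (R.inv_mem r.2) this) r.2
  let _ : MulAction R X :=
    { smul := fun r H => ⟨r • H.1, hmove r H.1 H.2⟩
      one_smul := fun H => Subtype.ext (one_smul R H.1)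
      mul_smul := fun r s H => Subtype.ext (mul_smul r s H.1) }
  have hstab : ∀ H : X, MulAction.stabilizer R H = MulAction.stabilizer R H.1 := fun H =>
    Subgroup.ext fun r => ⟨fun h => congrArg Subtype.val h, fun h => Subtype.ext h⟩
  have hsplit : cnt G (p ^ a) = cnt R (p ^ a) + Nat.card X := by
    rw [cnt_eq, cnt, Nat.card_eq_fintype_card, Nat.card_eq_fintype_card, Nat.card_eq_fintype_card,
      Fintype.card_subtype, Fintype.card_subtype, Fintype.card_subtype,
      ← Finset.card_filter_add_card_filter_not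
        (s := Finset.univ.filter fun H : Subgroup G => Nat.card H = p ^ a) (fun H => H ≤ R),
      Finset.filter_filter, Finset.filter_filter]
  rw [hsplit]
  suffices hX : p ^ 2 ∣ Nat.card X by
    obtain ⟨c, hc⟩ := hX
    rw [hc]
    exact Nat.add_mul_mod_self_left _ _ _
  -- orbit of size `p`: `N_P(H)` has index `p`
  let Big : X → Prop := fun H => (MulAction.stabilizer R H.1).index = p
  have hidx : ∀ H : X, ∃ i, (MulAction.stabilizer R H.1).index = p ^ (i + 1) := by
    intro H
    obtain ⟨i, hi⟩ := hRp.index (MulAction.stabilizer R H.1)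
    rcases i with _ | i
    · exfalso
      rw [pow_zero, Subgroup.index_eq_one] at hi
      have hle : R ≤ Subgroup.normalizer (H.1 : Set G) := fun r hr =>
        mem_stabilizer_conj.mp (hi ▸ Subgroup.mem_top (⟨r, hr⟩ : R))
      have hp' : IsPGroup p (R ⊔ H.1 : Subgroup G) :=
        IsPGroup.to_sup_of_normal_right' P.2 (IsPGroup.of_card H.2.1) hle
      exact H.2.2 ((le_sup_right (a := R)).trans (P.3 hp' le_sup_left).le)
    · exact ⟨i, hi⟩
  -- the Sylow subgroups meeting `P` in a maximal subgroup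
  let T := {S : Subgroup G // Nat.card S = p ^ n ∧ (R ⊓ S).relIndex R = p}
  have hTmove : ∀ (r : R) (S : Subgroup G), (Nat.card S = p ^ n ∧ (R ⊓ S).relIndex R = p) →
      (Nat.card (r • S : Subgroup G) = p ^ n ∧ (R ⊓ r • S).relIndex R = p) := by
    intro r S h
    have hRr : MulAut.conj (r : G) • R = R :=
      Coprime.conj_smul_eq_self_of_mem_normalizer (Subgroup.le_normalizer r.2)
    rw [conj_smul_def, Coprime.card_conj_smul]
    refine ⟨h.1, ?_⟩
    rw [Subgroup.inf_relIndex_left]
    have h2 := h.2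
    rw [Subgroup.inf_relIndex_left] at h2
    conv_lhs => arg 2; rw [← hRr]
    rw [Subgroup.relIndex_pointwise_smul]
    exact h2
  let _ : MulAction R T :=
    { smul := fun r S => ⟨r • S.1, hTmove r S.1 S.2⟩
      one_smul := fun S => Subtype.ext (one_smul R S.1)
      mul_smul := fun r s S => Subtype.ext (mul_smul r s S.1) }
  -- the fibre over `S`
  let Fib : T → Type _ := fun S => {H : Subgroup G //
    Nat.card H = p ^ a ∧ H ≤ S.1 ∧ ¬ H ≤ R ∧ R ⊓ S.1 ≤ Subgroup.normalizer (H : Set G)}
  have hfib : ∀ S : T, p ∣ Nat.card (Fib S) := by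
    intro S
    let M : Subgroup G := R ⊓ S.1
    have hMcard : Nat.card M = p ^ (n - 1) := by
      have h1 := Subgroup.card_mul_index (M.subgroupOf R)
      rw [Nat.card_congr (Subgroup.subgroupOfEquivOfLe (inf_le_left : M ≤ R)).toEquiv,
        ← Subgroup.relIndex, S.2.2, hPn] at h1
      conv_rhs at h1 => rw [show n = n - 1 + 1 by omega, pow_succ]
      exact Nat.eq_of_mul_eq_mul_right hpp.pos h1
    let Y := {H : Subgroup G // Nat.card H = p ^ a ∧ H ≤ S.1 ∧ ¬ H ≤ R}
    have hmv : ∀ (r : M) (H : Subgroup G), (Nat.card H = p ^ a ∧ H ≤ S.1 ∧ ¬ H ≤ R) →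
        (Nat.card (r • H : Subgroup G) = p ^ a ∧ r • H ≤ S.1 ∧ ¬ r • H ≤ R) := by
      intro r H h
      rw [conj_smul_def, Coprime.card_conj_smul]
      refine ⟨h.1, ?_, fun hle => h.2.2 fun x hx => ?_⟩
      · rintro _ ⟨x, hx, rfl⟩
        exact S.1.mul_mem (S.1.mul_mem r.2.2 (h.2.1 hx)) (S.1.inv_mem r.2.2)
      · have := hle (Subgroup.smul_mem_pointwise_smul x (MulAut.conj (r : G)) H hx)
        simpa [mul_assoc] using R.mul_mem (R.mul_mem (R.inv_mem r.2.1) this) r.2.1
    let _ : MulAction M Y :=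
      { smul := fun r H => ⟨r • H.1, hmv r H.1 H.2⟩
        one_smul := fun H => Subtype.ext (one_smul M H.1)
        mul_smul := fun r s H => Subtype.ext (mul_smul r s H.1) }
    have hMp : IsPGroup p M := IsPGroup.of_card hMcard
    have hmod := hMp.card_modEq_card_fixedPoints Y
    have e : MulAction.fixedPoints M Y ≃ Fib S :=
      { toFun := fun H => ⟨H.1.1, H.1.2.1, H.1.2.2.1, H.1.2.2.2, fun r hr =>
          mem_stabilizer_conj.mp (show (⟨r, hr⟩ : M) ∈ MulAction.stabilizer M H.1.1 from
            congrArg Subtype.val (H.2 (⟨r, hr⟩ : M)))⟩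
        invFun := fun H => ⟨⟨H.1, H.2.1, H.2.2.1, H.2.2.2.1⟩, fun r => Subtype.ext
          (mem_stabilizer_conj.mpr (H.2.2.2.2 r.2) : r ∈ MulAction.stabilizer M H.1)⟩
        left_inv := fun H => rfl
        right_inv := fun H => rfl }
    rw [Nat.card_congr e] at hmod
    -- `Y` counts the subgroups of `S` outside `M`
    have hY : Nat.card Y + cnt M (p ^ a) = cnt S.1 (p ^ a) := by
      rw [cnt_eq, cnt_eq, Nat.card_eq_fintype_card, Nat.card_eq_fintype_card,
        Nat.card_eq_fintype_card, Fintype.card_subtype, Fintype.card_subtype, Fintype.card_subtype,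
        ← Finset.card_filter_add_card_filter_not
          (s := Finset.univ.filter fun H : Subgroup G => Nat.card H = p ^ a ∧ H ≤ S.1) (fun H => H ≤ R),
        Finset.filter_filter, Finset.filter_filter, add_comm]
      congr 1
      · congr 1
        ext H
        simp only [Finset.mem_filter, Finset.mem_univ, true_and, M, le_inf_iff]
        tauto
      · congr 1
        ext H
        simp only [Finset.mem_filter, Finset.mem_univ, true_and]
        tauto
    have hS1 : cnt S.1 (p ^ a) ≡ 1 [MOD p] :=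
      Fg6.SubgroupCount.card_subgroup_modEq_one p a hpp (by rw [S.2.1]; exact pow_dvd_pow p han.le)
    have hM1 : cnt M (p ^ a) ≡ 1 [MOD p] :=
      Fg6.SubgroupCount.card_subgroup_modEq_one p a hpp (by rw [hMcard]; exact pow_dvd_pow p (by omega))
    rw [← hY] at hS1
    have h0 : Nat.card Y ≡ 0 [MOD p] :=
      Nat.ModEq.add_right_cancel hM1 (hS1.trans (by rw [zero_add]))
    exact Nat.modEq_zero_iff_dvd.mp (hmod.symm.trans h0)
  -- the map to `T`
  have hto : ∀ H : {H : X // Big H},
      ∃ S : T, H.1.1 ≤ S.1 ∧ R ⊓ S.1 ≤ Subgroup.normalizer (H.1.1 : Set G) ∧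
        ∀ S' : T, H.1.1 ≤ S'.1 → R ⊓ S'.1 ≤ Subgroup.normalizer (H.1.1 : Set G) → S' = S := by
    intro ⟨H, hH⟩
    let M : Subgroup G := R ⊓ Subgroup.normalizer (H.1 : Set G)
    have hMs : M.subgroupOf R = MulAction.stabilizer R H.1 := Subgroup.ext fun r => by
      rw [Subgroup.mem_subgroupOf, mem_stabilizer_conj]
      exact ⟨fun h => h.2, fun h => ⟨r.2, h⟩⟩
    have hMr : M.relIndex R = p := by rw [Subgroup.relIndex, hMs]; exact hH
    have hMcard : Nat.card M = p ^ (n - 1) := by
      have h1 := Subgroup.card_mul_index (M.subgroupOf R)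
      rw [Nat.card_congr (Subgroup.subgroupOfEquivOfLe (inf_le_left : M ≤ R)).toEquiv,
        ← Subgroup.relIndex, hMr, hPn] at h1
      conv_rhs at h1 => rw [show n = n - 1 + 1 by omega, pow_succ]
      exact Nat.eq_of_mul_eq_mul_right hpp.pos h1
    have hQp : IsPGroup p (M ⊔ H.1 : Subgroup G) := IsPGroup.to_sup_of_normal_right'
      (P.2.to_le inf_le_left) (IsPGroup.of_card H.2.1) inf_le_right
    have hQcard : Nat.card (M ⊔ H.1 : Subgroup G) = p ^ n := by
      obtain ⟨i, hi⟩ := IsPGroup.iff_card.mp hQp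
      obtain ⟨Q', hQ'⟩ := hQp.exists_le_sylow
      have hup : i ≤ n := by
        have h1 := Subgroup.card_dvd_of_le hQ'
        rw [hi, Sylow.card_eq_multiplicity, ← P.card_eq_multiplicity, hPn] at h1
        exact (Nat.pow_dvd_pow_iff_le_right hpp.one_lt).mp h1
      have hlt : M < M ⊔ H.1 := lt_of_le_of_ne le_sup_left fun he =>
        H.2.2 (((le_sup_right (a := M)).trans he.ge).trans inf_le_left)
      have h2 := Subgroup.card_le_of_le hlt.le
      rw [hMcard, hi] at h2
      have h3 := (Nat.pow_le_pow_iff_right hpp.one_lt).mp h2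
      rcases Nat.lt_or_ge i n with h | h
      · exfalso
        exact hlt.ne (Subgroup.eq_of_le_of_card_ge hlt.le (by
          rw [hMcard, hi, show i = n - 1 by omega]))
      · rw [hi, le_antisymm hup h]
    have hne : ¬ (M ⊔ H.1) ≤ R := fun h => H.2.2 ((le_sup_right (a := M)).trans h)
    have hinf : R ⊓ (M ⊔ H.1) = M := by
      refine (Subgroup.eq_of_le_of_card_ge (le_inf inf_le_left le_sup_left) ?_).symm
      obtain ⟨i, hi⟩ := IsPGroup.iff_card.mp (hRp.to_le (inf_le_left : R ⊓ (M ⊔ H.1) ≤ R))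
      rw [hMcard, hi]
      refine Nat.pow_le_pow_right hpp.pos ?_
      by_contra hi'
      apply hne
      have h1 := Subgroup.card_dvd_of_le (inf_le_left : R ⊓ (M ⊔ H.1) ≤ R)
      rw [hi, hPn] at h1
      have h2 := (Nat.pow_dvd_pow_iff_le_right hpp.one_lt).mp h1
      have h3 : R ⊓ (M ⊔ H.1) = M ⊔ H.1 := Subgroup.eq_of_le_of_card_ge inf_le_right (by
        rw [hQcard, hi, show i = n by omega])
      exact h3.ge.trans inf_le_left
    refine ⟨⟨M ⊔ H.1, hQcard, by rw [hinf, hMr]⟩, le_sup_right, by rw [hinf]; exact inf_le_right,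
      fun S' h1 h2 => ?_⟩
    refine Subtype.ext (Subgroup.eq_of_le_of_card_ge (?_ : M ⊔ H.1 ≤ S'.1)
      (le_of_eq (S'.2.1.trans hQcard.symm))).symm
    have hle : R ⊓ S'.1 ≤ M := le_inf inf_le_left h2
    have heq : R ⊓ S'.1 = M := by
      refine Subgroup.eq_of_le_of_card_ge hle (le_of_eq ?_)
      have h1 := Subgroup.card_mul_index ((R ⊓ S'.1).subgroupOf R)
      rw [Nat.card_congr (Subgroup.subgroupOfEquivOfLe (inf_le_left : R ⊓ S'.1 ≤ R)).toEquiv,
        ← Subgroup.relIndex, S'.2.2, hPn] at h1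
      conv_rhs at h1 => rw [show n = n - 1 + 1 by omega, pow_succ]
      rw [hMcard, Nat.eq_of_mul_eq_mul_right hpp.pos h1]
    exact sup_le (heq.ge.trans inf_le_right) h1
  choose Φ hΦ1 hΦ2 hΦ3 using hto
  have := Fintype.ofFinite X
  have := Fintype.ofFinite T
  have hbigcard : Nat.card {H : X // Big H} = ∑ S : T, Nat.card (Fib S) := by
    rw [← Nat.card_congr (Equiv.sigmaFiberEquiv Φ), Nat.card_sigma]
    refine Finset.sum_congr rfl fun S _ => Nat.card_congr
      { toFun := fun H => ⟨H.1.1.1, H.1.1.2.1,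
          (hΦ1 H.1).trans (congrArg Subtype.val H.2).le, H.1.1.2.2,
          le_trans (inf_le_inf_left R (congrArg Subtype.val H.2).ge) (hΦ2 H.1)⟩
        invFun := fun H => ⟨⟨⟨H.1, H.2.1, H.2.2.2.1⟩, ?_⟩, (hΦ3 _ S H.2.2.1 H.2.2.2.2).symm⟩
        left_inv := fun H => rfl
        right_inv := fun H => rfl }
    -- the stabiliser of a member of the fibre has index `p`
    have hle : (R ⊓ S.1).subgroupOf R ≤ MulAction.stabilizer R H.1 := fun r hr =>
      mem_stabilizer_conj.mpr (H.2.2.2.2 hr)
    have hd := Subgroup.index_dvd_of_le hle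
    rw [← Subgroup.relIndex, S.2.2] at hd
    obtain ⟨i, hi⟩ := hidx ⟨H.1, H.2.1, H.2.2.2.1⟩
    simp only [Big]
    rcases (Nat.dvd_prime hpp).mp hd with h | h
    · rw [hi] at h
      exact absurd h (Nat.one_lt_pow i.succ_ne_zero hpp.one_lt).ne'
    · exact h
  have hsplitX : Nat.card X = Nat.card {H : X // Big H} + Nat.card {H : X // ¬ Big H} := by
    rw [← Nat.card_sum]
    exact Nat.card_congr (Equiv.sumCompl Big).symm
  rw [hsplitX, hbigcard]
  refine dvd_add ?_ ?_
  · -- orbits on `T` have size divisible by `p`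
    refine dvd_sum_of_orbits (H := R) _ (fun r S => ?_) _ fun S => ?_
    · refine Nat.card_congr
        { toFun := fun H => ⟨r⁻¹ • H.1, (hmove r⁻¹ H.1 ⟨H.2.1, H.2.2.2.1⟩).1, ?_,
            (hmove r⁻¹ H.1 ⟨H.2.1, H.2.2.2.1⟩).2, ?_⟩
          invFun := fun H => ⟨r • H.1, (hmove r H.1 ⟨H.2.1, H.2.2.2.1⟩).1, ?_,
            (hmove r H.1 ⟨H.2.1, H.2.2.2.1⟩).2, ?_⟩
          left_inv := fun H => Subtype.ext (smul_inv_smul r H.1)
          right_inv := fun H => Subtype.ext (inv_smul_smul r H.1) }
      · have h := Subgroup.pointwise_smul_le_pointwise_smul_iff (a := MulAut.conj (r : G)⁻¹) |>.mpr H.2.2.1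
        exact h.trans (le_of_eq (inv_smul_smul r S.1))
      · have h := H.2.2.2.2
        intro x hx
        have hx' : (r : G) * x * (r : G)⁻¹ ∈ R ⊓ (r • S.1) :=
          ⟨R.mul_mem (R.mul_mem r.2 hx.1) (R.inv_mem r.2),
            Subgroup.smul_mem_pointwise_smul x (MulAut.conj (r : G)) S.1 hx.2⟩
        have h2 := Coprime.conj_smul_eq_self_of_mem_normalizer (h hx')
        refine Coprime.mem_normalizer_of_conj_smul_eq ?_
        show MulAut.conj x • (MulAut.conj ((r⁻¹ : R) : G) • H.1) = MulAut.conj ((r⁻¹ : R) : G) • H.1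
        conv_rhs => rw [← h2]
        rw [← mul_smul, ← mul_smul, ← map_mul, ← map_mul]
        congr 2
        simp [mul_assoc]
      · exact Subgroup.pointwise_smul_le_pointwise_smul_iff (a := MulAut.conj (r : G)) |>.mpr H.2.2.1
      · have h := H.2.2.2.2
        intro x hx
        have hx' : (r : G)⁻¹ * x * r ∈ R ⊓ S.1 := by
          refine ⟨R.mul_mem (R.mul_mem (R.inv_mem r.2) hx.1) r.2, ?_⟩
          obtain ⟨y, hy, hyx⟩ := hx.2
          rw [← hyx]
          simpa [mul_assoc] using hy
        have h2 := Coprime.conj_smul_eq_self_of_mem_normalizer (h hx')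
        refine Coprime.mem_normalizer_of_conj_smul_eq ?_
        show MulAut.conj x • (MulAut.conj (r : G) • H.1) = MulAut.conj (r : G) • H.1
        conv_rhs => rw [← h2]
        rw [← mul_smul, ← mul_smul, ← map_mul, ← map_mul]
        congr 2
        group
    · obtain ⟨c, hc⟩ := hfib S
      obtain ⟨i, hi⟩ := hRp.index (MulAction.stabilizer R S)
      rcases i with _ | i
      · exfalso
        rw [pow_zero, Subgroup.index_eq_one] at hi
        have hle : R ≤ Subgroup.normalizer (S.1 : Set G) := fun r hr => mem_stabilizer_conj.mp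
          (show (⟨r, hr⟩ : R) ∈ MulAction.stabilizer R S.1 from
            congrArg Subtype.val (show (⟨r, hr⟩ : R) • S = S from
              MulAction.mem_stabilizer_iff.mp (hi ▸ Subgroup.mem_top _)))
        have hp' : IsPGroup p (R ⊔ S.1 : Subgroup G) :=
          IsPGroup.to_sup_of_normal_right' P.2 (IsPGroup.of_card S.2.1) hle
        have hSR : S.1 ≤ R := (le_sup_right (a := R)).trans (P.3 hp' le_sup_left).le
        have h1 := S.2.2
        rw [inf_eq_right.mpr hSR] at h1
        have heq : S.1 = R := Subgroup.eq_of_le_of_card_ge hSR (le_of_eq (hPn.trans S.2.1.symm))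
        rw [heq, Subgroup.relIndex_self] at h1
        exact hpp.one_lt.ne h1
      · rw [hi, hc]
        exact ⟨p ^ i * c, by ring⟩
  · let _ : MulAction R {H : X // ¬ Big H} :=
      { smul := fun r H => ⟨r • H.1, fun h => H.2 (by
          simp only [Big] at h ⊢
          have := MulAction.stabilizer_smul_eq_stabilizer_map_conj r H.1.1
          change (MulAction.stabilizer R (r • H.1.1)).index = p at h
          rw [this, Subgroup.index_map_of_bijective (MulEquiv.bijective _)] at h
          exact h)⟩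
        one_smul := fun H => Subtype.ext (one_smul R H.1)
        mul_smul := fun r s H => Subtype.ext (mul_smul r s H.1) }
    have := Fintype.ofFinite {H : X // ¬ Big H}
    rw [Nat.card_eq_fintype_card, ← Finset.card_univ, Finset.card_eq_sum_ones]
    refine dvd_sum_of_orbits (H := R) _ (fun _ _ => rfl) _ fun H => ?_
    rw [mul_one]
    have hst : MulAction.stabilizer R H = MulAction.stabilizer R H.1.1 := Subgroup.ext fun r =>
      ⟨fun h => congrArg (fun z : {H : X // ¬ Big H} => z.1.1) h,
        fun h => Subtype.ext (Subtype.ext h)⟩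
    obtain ⟨i, hi⟩ := hidx H.1
    rw [hst, hi]
    rcases i with _ | i
    · exact absurd (hi.trans (pow_one p)) H.2
    · exact pow_dvd_pow p (by omega)

end Cfsg.Agent.Lib.SubgroupCountSq
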