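import Cfsg.Agent.Lib.SubgroupCountSq.Enumerate
import Cfsg.Agent.Lib.PGroups.MaxAbelian
import Cfsg.Agent.Lib.PGroups.MaximalClass

/-!
# The number of cyclic maximal subgroups is a multiple of `p`
-/

set_option autoImplicit false

namespace Cfsg.Agent.Lib.SubgroupCountSq

open Cfsg.Agent.Lib
open scoped commutatorElement

variable {G : Type*} [Group G] [Finite G] {p : ℕ} [hp : Fact p.Prime]

theorem dvd_card_cyclic_maxOver (hP : IsPGroup p G) (hnc : ¬ IsCyclic G) {m : ℕ}
    (hG : Nat.card G = p ^ (m + 3)) (h2 : p = 2 → (commutator G).index ≠ 4) :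
    p ∣ Nat.card {M : MaxOver p (⊥ : Subgroup G) // IsCyclic M.1} := by
  classical
  rcases isEmpty_or_nonempty {M : MaxOver p (⊥ : Subgroup G) // IsCyclic M.1} with h | h
  · simp
  obtain ⟨⟨⟨C, hCi, hCbot⟩, hC⟩⟩ := h
  have hpp : p.Prime := hp.out
  have hCn := PGroups.coe_index_prime_normal hP hCi
  obtain ⟨c, hc⟩ := (Subgroup.isCyclic_iff_exists_zpowers_eq_top C).mp hC
  have hco : orderOf c = p ^ (m + 2) := by
    rw [← Nat.card_zpowers, hc]
    exact card_eq_of_index hG hCi
  set Φ := frattini G with hΦ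
  have hΦC : Φ ≤ C := frattini_le_of_index hP hCi
  set F := Subgroup.zpowers (c ^ p) with hF
  have hFΦ : F ≤ Φ := Subgroup.zpowers_le.mpr (PGroups.pow_mem_frattini hP c)
  have hFcard : Nat.card F = p ^ (m + 1) := by
    rw [hF, Nat.card_zpowers, orderOf_pow' _ hpp.ne_zero, hco, pow_succ',
      Nat.gcd_mul_right_left, Nat.mul_div_cancel_left _ hpp.pos]
  have hΦcard : Nat.card Φ ≤ p ^ (m + 1) := by
    have hd : Nat.card Φ ∣ p ^ (m + 2) :=
      (Subgroup.card_dvd_of_le hΦC).trans (dvd_of_eq (card_eq_of_index hG hCi))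
    obtain ⟨i, hi, hi'⟩ := (Nat.dvd_prime_pow hpp).mp hd
    rcases Nat.lt_or_ge i (m + 2) with h | h
    · rw [hi']; exact Nat.pow_le_pow_right hpp.pos (by omega)
    · exfalso
      apply hnc
      have : IsCyclic (G ⧸ Φ) := by
        refine isCyclic_of_prime_card (p := p) ?_
        have h1 := Φ.card_mul_index
        rw [hi', le_antisymm hi h, hG, ← Subgroup.index_eq_card] at *
        exact Nat.eq_of_mul_eq_mul_left (pow_pos hpp.pos _) (h1.trans (pow_succ _ _))
      exact PGroups.isCyclic_of_quotient_le_frattini Φ le_rfl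
  have hΦF : Φ = F := (Subgroup.eq_of_le_of_card_ge hFΦ (hFcard.symm ▸ hΦcard)).symm
  set Q := Subgroup.zpowers (c ^ (p * p)) with hQ
  have hQo : Nat.card Q = p ^ m := by
    rw [hQ, Nat.card_zpowers, orderOf_pow' _ (mul_ne_zero hpp.ne_zero hpp.ne_zero), hco,
      show m + 2 = 2 + m from add_comm _ _, pow_add, pow_two, Nat.gcd_mul_right_left,
      Nat.mul_div_cancel_left _ (mul_pos hpp.pos hpp.pos)]
  have hQF : Q ≤ F := by
    rw [hQ, Subgroup.zpowers_le, pow_mul]
    exact Subgroup.pow_mem _ (Subgroup.mem_zpowers _) p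
  have hQeq : ∀ x ∈ C, x ∈ Q ↔ x ^ p ^ m = 1 := by
    intro x hx
    refine ⟨fun h => orderOf_dvd_iff_pow_eq_one.mp (hQo ▸ Q.orderOf_dvd_natCard h), fun h => ?_⟩
    rw [← hc, ← mem_powers_iff_mem_zpowers] at hx
    obtain ⟨i, rfl⟩ := hx
    simp only at h ⊢
    rw [← pow_mul, ← orderOf_dvd_iff_pow_eq_one, hco, show m + 2 = 2 + m from add_comm _ _, pow_add,
      pow_two] at h
    obtain ⟨j, rfl⟩ := Nat.dvd_of_mul_dvd_mul_right (pow_pos hpp.pos m) h
    rw [pow_mul]
    exact Q.pow_mem (hQ ▸ Subgroup.mem_zpowers _) j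
  have hQn : Q.Normal := by
    refine ⟨fun x hx g => ?_⟩
    have hxC : x ∈ C := hΦC (hΦF ▸ hQF hx)
    rw [hQeq _ (hCn.conj_mem x hxC g), conj_pow, (hQeq x hxC).mp hx, mul_one, mul_inv_cancel]
  -- `F ∖ Q` consists of generators of `F`
  have hFgen : ∀ x ∈ F, x ∉ Q → orderOf x = p ^ (m + 1) := by
    intro x hx hxQ
    obtain ⟨i, hi, hi'⟩ := (Nat.dvd_prime_pow hpp).mp (hFcard ▸ F.orderOf_dvd_natCard hx)
    rcases Nat.lt_or_ge i (m + 1) with h | h
    · refine absurd ((hQeq x (hΦC (hΦF ▸ hx))).mpr ?_) hxQ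
      rw [← orderOf_dvd_iff_pow_eq_one, hi']
      exact pow_dvd_pow p (by omega)
    · rw [hi', le_antisymm hi h]
  let π := QuotientGroup.mk' Q
  have hFQ : Nat.card (F.map π) = p := by
    rw [← Subgroup.relIndex_ker, QuotientGroup.ker_mk', Subgroup.relIndex]
    have h := Subgroup.card_mul_index (Q.subgroupOf F)
    rw [Nat.card_congr (Subgroup.subgroupOfEquivOfLe hQF).toEquiv, hQo, hFcard, pow_succ] at h
    exact Nat.eq_of_mul_eq_mul_left (pow_pos hpp.pos m) h
  have hcomm : ∀ x y : G, π (x ^ p) * π (y ^ p) = π ((x * y) ^ p) := by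
    intro x y
    have hcF : π ⁅y, x⁆ ∈ F.map π :=
      Subgroup.mem_map_of_mem _ (hΦF ▸ PGroups.commutatorElement_mem_frattini hP y x)
    have hcent : F.map π ≤ Subgroup.center (G ⧸ Q) := by
      have hFn : F.Normal := hΦF ▸ (inferInstance : (frattini G).Normal)
      have := hFn.map π (QuotientGroup.mk'_surjective Q)
      have hne : F.map π ≠ ⊥ := fun h => by
        rw [h, Subgroup.card_bot] at hFQ; exact hpp.one_lt.ne hFQ
      have hi := PGroups.normal_inf_center_ne_bot (hP.to_quotient Q) _ hne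
      have hd := Subgroup.card_dvd_of_le (inf_le_left : F.map π ⊓ Subgroup.center _ ≤ F.map π)
      rw [hFQ] at hd
      rcases (Nat.dvd_prime hpp).mp hd with h | h
      · exact absurd (Subgroup.eq_bot_of_card_eq _ h) hi
      · exact (Subgroup.eq_of_le_of_card_ge inf_le_left (by rw [h, hFQ])).ge.trans inf_le_right
    have hcc : ∀ z : G ⧸ Q, Commute z ⁅π y, π x⁆ := fun z => by
      rw [← map_commutatorElement]
      exact Subgroup.mem_center_iff.mp (hcent hcF) z
    rw [map_pow, map_pow, map_pow, map_mul,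
      PGroups.mul_pow_of_central_commutator (π x) (π y) (hcc _) (hcc _) p]
    suffices h : ⁅π y, π x⁆ ^ p.choose 2 = 1 by rw [h, mul_one]
    have hcp : ⁅π y, π x⁆ ^ p = 1 := by
      rw [← map_commutatorElement, ← orderOf_dvd_iff_pow_eq_one]
      exact hFQ ▸ (F.map π).orderOf_dvd_natCard hcF
    rcases hpp.eq_two_or_odd' with hp2 | hodd
    · have hGQ : commutator G ≤ Q := by
        by_contra hle
        obtain ⟨z, hz, hzQ⟩ := SetLike.not_le_iff_exists.mp hle
        have hzF : z ∈ F := hΦF ▸ PGroups.commutator_le_frattini hP hz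
        apply h2 hp2
        have hd : commutator G = F := by
          refine Subgroup.eq_of_le_of_card_ge (hΦF ▸ PGroups.commutator_le_frattini hP) ?_
          rw [hFcard, ← hFgen z hzF hzQ, ← Nat.card_zpowers]
          exact Subgroup.card_le_of_le (Subgroup.zpowers_le.mpr hz)
        rw [hd]
        have h := F.card_mul_index
        rw [hFcard, hG] at h
        replace h : p ^ (m + 1) * F.index = p ^ (m + 1) * p ^ 2 := h.trans (pow_add p (m + 1) 2)
        rw [Nat.eq_of_mul_eq_mul_left (pow_pos hpp.pos _) h, hp2]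
        rfl
      have : ⁅π y, π x⁆ = 1 := by
        rw [← map_commutatorElement]
        exact (QuotientGroup.eq_one_iff _).mpr (hGQ (Subgroup.commutator_mem_commutator
          (Subgroup.mem_top y) (Subgroup.mem_top x)))
      rw [this, one_pow]
    · obtain ⟨j, rfl⟩ := hodd
      rw [Nat.choose_two_right, Nat.add_sub_cancel, ← mul_assoc, mul_comm (2 * j + 1) 2,
        mul_assoc, Nat.mul_div_cancel_left _ two_pos, pow_mul, hcp, one_pow]
  let f : G →* G ⧸ Q := MonoidHom.mk' (fun x => π (x ^ p)) fun x y => (hcomm x y).symm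
  have hKtop : f.ker ≠ ⊤ := fun h => by
    have h1 : c ^ p ∈ Q := (QuotientGroup.eq_one_iff _).mp
      (MonoidHom.mem_ker.mp (h ▸ Subgroup.mem_top c : c ∈ f.ker))
    have h2 := Q.orderOf_dvd_natCard h1
    rw [hQo, ← Nat.card_zpowers, ← hF, hFcard, Nat.pow_dvd_pow_iff_le_right hpp.one_lt] at h2
    omega
  have hKi : f.ker.index = p := by
    have hle : f.range ≤ F.map π := by
      rintro _ ⟨x, rfl⟩
      exact Subgroup.mem_map_of_mem π (hΦF ▸ PGroups.pow_mem_frattini hP x : x ^ p ∈ F)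
    have h := Subgroup.card_dvd_of_le hle
    rw [hFQ, ← Subgroup.index_ker] at h
    rcases (Nat.dvd_prime hpp).mp h with h | h
    · exact absurd (Subgroup.index_eq_one.mp h) hKtop
    · exact h
  have hiff : ∀ L : MaxOver p (⊥ : Subgroup G), IsCyclic L.1 ↔ L ≠ ⟨f.ker, hKi, bot_le⟩ := by
    intro L
    have hLc := card_eq_of_index (m := m + 2) hG L.2.1
    constructor
    · intro hL he
      have hker : L.1 = f.ker := congrArg Subtype.val he
      obtain ⟨x, hx⟩ := (Subgroup.isCyclic_iff_exists_zpowers_eq_top L.1).mp hL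
      have h1 : x ^ p ∈ Q := (QuotientGroup.eq_one_iff _).mp
        (MonoidHom.mem_ker.mp (hker ▸ hx ▸ Subgroup.mem_zpowers x : x ∈ f.ker))
      have h2 := Q.orderOf_dvd_natCard h1
      rw [orderOf_pow' _ hpp.ne_zero, ← Nat.card_zpowers, hx, hLc, pow_succ', Nat.gcd_mul_right_left,
        Nat.mul_div_cancel_left _ hpp.pos, hQo, Nat.pow_dvd_pow_iff_le_right hpp.one_lt] at h2
      omega
    · intro hne
      have hnle : ¬ L.1 ≤ f.ker := fun hle => hne (Subtype.ext
        (Subgroup.eq_of_le_of_card_ge hle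
          (le_of_eq ((card_eq_of_index (m := m + 2) hG hKi).trans hLc.symm))))
      obtain ⟨x, hxL, hxK⟩ := SetLike.not_le_iff_exists.mp hnle
      have hxQ : x ^ p ∉ Q := fun h => hxK ((QuotientGroup.eq_one_iff _).mpr h)
      have ho := hFgen _ (hΦF ▸ PGroups.pow_mem_frattini hP x) hxQ
      have hxo : orderOf x = p ^ (m + 2) := by
        obtain ⟨i, hi, hi'⟩ := (Nat.dvd_prime_pow hpp).mp (hLc ▸ L.1.orderOf_dvd_natCard hxL)
        rcases i with _ | i
        · exfalso
          have h : x = 1 := orderOf_eq_one_iff.mp (by rw [hi', pow_zero])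
          exact hxQ (by rw [h, one_pow]; exact Q.one_mem)
        · rw [orderOf_pow' _ hpp.ne_zero, hi', pow_succ', Nat.gcd_mul_right_left,
            Nat.mul_div_cancel_left _ hpp.pos] at ho
          rw [hi', Nat.pow_right_injective hpp.two_le ho]
      rw [Subgroup.isCyclic_iff_exists_zpowers_eq_top]
      exact ⟨x, Subgroup.eq_of_le_of_card_ge (Subgroup.zpowers_le.mpr hxL)
        (by rw [Nat.card_zpowers, hxo, hLc])⟩
  have := Fintype.ofFinite (MaxOver p (⊥ : Subgroup G))
  rw [Nat.card_congr (Equiv.subtypeEquivRight hiff), Nat.card_eq_fintype_card,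
    Fintype.card_subtype_compl, Fintype.card_subtype_eq, ← Nat.card_eq_fintype_card]
  have hs : Nat.card (MaxOver p (⊥ : Subgroup G)) ≡ 1 [MOD p] :=
    Fg6.Kulakoff.card_maximal_above hP fun h => hnc (by
      have : Subsingleton G := Subgroup.subsingleton_iff.mp (subsingleton_of_bot_eq_top h)
      exact isCyclic_of_subsingleton)
  have h1 : 1 ≤ Nat.card (MaxOver p (⊥ : Subgroup G)) := by
    have : Nonempty (MaxOver p (⊥ : Subgroup G)) := ⟨⟨C, hCi, bot_le⟩⟩
    exact Nat.card_pos
  exact (Nat.modEq_iff_dvd' h1).mp hs.symm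

end Cfsg.Agent.Lib.SubgroupCountSq
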