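import Mathlib
import Cfsg.Agent.Lib.Fg6.Kulakoff
import Cfsg.Agent.Lib.PGroups.Frattini
import Cfsg.Agent.Lib.PGroups.CyclicIndexP

/-!
# Hall's enumeration principle modulo `p ^ 2`

A proper subgroup of a finite `p`-group lies in `s` maximal subgroups and in `t` normal subgroups
of index `p ^ 2` containing `Φ`, where `s ≡ 1 + p t (mod p ^ 2)`.
-/

set_option autoImplicit false

namespace Cfsg.Agent.Lib.SubgroupCountSq

open Cfsg.Agent.Lib

variable {G : Type*} [Group G] [Finite G] {p : ℕ} [hp : Fact p.Prime]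

/-- The number of subgroups of order `q`. -/
noncomputable def cnt (G : Type*) [Group G] (q : ℕ) : ℕ :=
  Nat.card {H : Subgroup G // Nat.card H = q}

theorem cnt_eq (M : Subgroup G) (q : ℕ) :
    cnt M q = Nat.card {H : Subgroup G // Nat.card H = q ∧ H ≤ M} :=
  Nat.card_congr
    { toFun := fun H => ⟨H.1.map M.subtype,
        (Subgroup.card_map_of_injective M.subtype_injective).trans H.2,
        Subgroup.map_subtype_le _⟩
      invFun := fun H => ⟨H.1.subgroupOf M,
        (Nat.card_congr (Subgroup.subgroupOfEquivOfLe H.2.2).toEquiv).trans H.2.1⟩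
      left_inv := fun H => Subtype.ext (Subgroup.comap_map_eq_self_of_injective M.subtype_injective _)
      right_inv := fun H => Subtype.ext (Subgroup.map_subgroupOf_eq_of_le H.2.2) }

theorem frattini_le_of_index (hP : IsPGroup p G) {M : Subgroup G} (hM : M.index = p) :
    frattini G ≤ M :=
  frattini_le_coatom ⟨fun h => by
    rw [h, Subgroup.index_top] at hM; exact hp.out.one_lt.ne hM, fun K hK => by
    have h1 := Subgroup.relIndex_mul_index hK.le
    rw [hM] at h1
    rcases (Nat.dvd_prime hp.out).mp ⟨_, (h1.symm.trans (mul_comm _ _))⟩ with h | h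
    · exact Subgroup.index_eq_one.mp h
    · rw [h] at h1
      have h2 : M.relIndex K = 1 := Nat.eq_of_mul_eq_mul_right hp.out.pos (h1.trans (one_mul p).symm)
      exact absurd (Subgroup.relIndex_eq_one.mp h2) hK.not_ge⟩

theorem card_eq_of_index {M : Subgroup G} {m : ℕ} (hG : Nat.card G = p ^ (m + 1)) (hM : M.index = p) :
    Nat.card M = p ^ m := by
  have h := M.card_mul_index
  rw [hM, hG, pow_succ] at h
  exact Nat.eq_of_mul_eq_mul_right hp.out.pos h

/-- The maximal subgroups above `U`. -/
abbrev MaxOver (p : ℕ) (U : Subgroup G) := {M : Subgroup G // M.index = p ∧ U ≤ M}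

/-- The subgroups of index `p ^ 2` above `U` and `Φ`. -/
abbrev TwoOver (p : ℕ) (U : Subgroup G) :=
  {K : Subgroup G // K.index = p ^ 2 ∧ frattini G ≤ K ∧ U ≤ K}

theorem normal_of_frattini_le (hP : IsPGroup p G) {K : Subgroup G} (hK : frattini G ≤ K) :
    K.Normal := ⟨fun x hx g => by
  have h : g * x * g⁻¹ * x⁻¹ ∈ K := hK (PGroups.commutatorElement_mem_frattini hP g x)
  simpa using K.mul_mem h hx⟩

theorem inf_index_of_ne (hP : IsPGroup p G) {M M' : Subgroup G} (hM : M.index = p)
    (hM' : M'.index = p) (hne : M ≠ M') : (M ⊓ M').index = p ^ 2 := by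
  have := PGroups.coe_index_prime_normal hP hM
  have htop : M ⊔ M' = ⊤ := by
    have h := Subgroup.index_dvd_of_le (le_sup_left : M ≤ M ⊔ M')
    rw [hM] at h
    rcases (Nat.dvd_prime hp.out).mp h with h | h
    · exact Subgroup.index_eq_one.mp h
    · have h1 := Subgroup.relIndex_mul_index (le_sup_left : M ≤ M ⊔ M')
      have h2 := Subgroup.relIndex_mul_index (le_sup_right : M' ≤ M ⊔ M')
      rw [h, hM] at h1
      rw [h, hM'] at h2
      have h1' : M.relIndex (M ⊔ M') = 1 := Nat.eq_of_mul_eq_mul_right hp.out.pos (h1.trans (one_mul p).symm)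
      have h2' : M'.relIndex (M ⊔ M') = 1 := Nat.eq_of_mul_eq_mul_right hp.out.pos (h2.trans (one_mul p).symm)
      exact absurd (le_antisymm (le_sup_left.trans (Subgroup.relIndex_eq_one.mp h2'))
        (le_sup_right.trans (Subgroup.relIndex_eq_one.mp h1'))) hne
  have hr : M.relIndex M' = p := by
    rw [← Subgroup.relIndex_sup_right, sup_comm, htop, Subgroup.relIndex_top_right, hM]
  rw [← Subgroup.relIndex_mul_index (inf_le_right : M ⊓ M' ≤ M'), Subgroup.inf_relIndex_right, hr,
    hM', pow_two]

/-- A subgroup of index `p ^ 2` above `Φ` lies in `p + 1` maximal subgroups. -/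
theorem card_maxOver_two (hP : IsPGroup p G) {K : Subgroup G} (hK : K.index = p ^ 2)
    (hKΦ : frattini G ≤ K) : Nat.card (MaxOver p K) = p + 1 := by
  classical
  have := Fintype.ofFinite G
  have := Fintype.ofFinite (MaxOver p K)
  have hKn := normal_of_frattini_le hP hKΦ
  let f : MaxOver p K → Finset G := fun M => Finset.univ.filter fun x => x ∈ M.1 ∧ x ∉ K
  have hcov : (Finset.univ : Finset (MaxOver p K)).biUnion f = Finset.univ.filter fun x => x ∉ K := by
    ext x
    simp only [Finset.mem_biUnion, Finset.mem_univ, true_and, Finset.mem_filter, f]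
    refine ⟨fun ⟨M, h1, h2⟩ => h2, fun hx => ?_⟩
    have hle : (K ⊔ Subgroup.zpowers x).index = p := by
      have h1 := Subgroup.index_dvd_of_le (le_sup_left : K ≤ K ⊔ Subgroup.zpowers x)
      rw [hK] at h1
      obtain ⟨i, hi, hi'⟩ := (Nat.dvd_prime_pow hp.out).mp h1
      have hr : K.relIndex (K ⊔ Subgroup.zpowers x) ≤ p := by
        rw [sup_comm, Subgroup.relIndex_sup_right]
        have hxp : x ^ p ∈ K := hKΦ (PGroups.pow_mem_frattini hP x)
        let π := (QuotientGroup.mk' K).comp (Subgroup.zpowers x).subtype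
        have hker : π.ker = K.subgroupOf (Subgroup.zpowers x) := by
          ext y; simp [π, Subgroup.mem_subgroupOf]
        rw [Subgroup.relIndex, ← hker, Subgroup.index_ker]
        refine le_trans (Subgroup.card_le_of_le (?_ : π.range ≤ Subgroup.zpowers (x : G ⧸ K))) ?_
        · rintro _ ⟨⟨_, i, rfl⟩, rfl⟩
          exact ⟨i, by simp [π]⟩
        · rw [Nat.card_zpowers]
          exact orderOf_le_of_pow_eq_one hp.out.pos (by
            rw [← QuotientGroup.mk_pow, QuotientGroup.eq_one_iff]; exact hxp)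
      have h2 := Subgroup.relIndex_mul_index (le_sup_left : K ≤ K ⊔ Subgroup.zpowers x)
      rw [hK] at h2
      interval_cases i
      · exfalso
        rw [hi', pow_zero, mul_one] at h2
        rw [h2] at hr
        nlinarith [hp.out.two_le]
      · rw [hi', pow_one]
      · exfalso
        rw [hi'] at h2
        have h4 : K.relIndex (K ⊔ Subgroup.zpowers x) = 1 :=
          Nat.eq_of_mul_eq_mul_right (pow_pos hp.out.pos 2) (h2.trans (one_mul _).symm)
        exact hx (Subgroup.relIndex_eq_one.mp h4 (le_sup_right (a := K) (Subgroup.mem_zpowers x)))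
    exact ⟨⟨_, hle, le_sup_left⟩, le_sup_right (a := K) (Subgroup.mem_zpowers x), hx⟩
  have hdisj : ((Finset.univ : Finset (MaxOver p K)) : Set (MaxOver p K)).PairwiseDisjoint f := by
    intro M _ M' _ hne
    rw [Function.onFun, Finset.disjoint_left]
    intro x hx hx'
    simp only [Finset.mem_filter, Finset.mem_univ, true_and, f] at hx hx'
    have hne' : M.1 ≠ M'.1 := fun h => hne (Subtype.ext h)
    have hidx := inf_index_of_ne hP M.2.1 M'.2.1 hne'
    have hle : K ≤ M.1 ⊓ M'.1 := le_inf M.2.2 M'.2.2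
    have h2 := Subgroup.relIndex_mul_index hle
    rw [hK, hidx] at h2
    have h4 : K.relIndex (M.1 ⊓ M'.1) = 1 :=
      Nat.eq_of_mul_eq_mul_right (pow_pos hp.out.pos 2) (h2.trans (one_mul _).symm)
    exact hx.2 (Subgroup.relIndex_eq_one.mp h4 ⟨hx.1, hx'.1⟩)
  have hsize : ∀ M : MaxOver p K, (f M).card + Nat.card K = p * Nat.card K := by
    intro M
    have h1 : Nat.card M.1 = p * Nat.card K := by
      have a1 := K.card_mul_index
      have a2 := M.1.card_mul_index
      rw [hK, ← a2, M.2.1, pow_two, ← mul_assoc] at a1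
      rw [mul_comm p]
      exact (Nat.eq_of_mul_eq_mul_right hp.out.pos a1).symm
    have h2 : Finset.univ.filter (fun x => x ∈ K) ⊆ Finset.univ.filter (fun x => x ∈ M.1) := by
      intro x; simp only [Finset.mem_filter, Finset.mem_univ, true_and]; exact fun h => M.2.2 h
    have h3 : f M = Finset.univ.filter (fun x => x ∈ M.1) \ Finset.univ.filter (fun x => x ∈ K) := by
      ext x; simp [f]
    rw [← h1, h3, Nat.card_eq_fintype_card, Nat.card_eq_fintype_card, Fintype.card_subtype,
      Fintype.card_subtype, Finset.card_sdiff_add_card_eq_card h2]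
  have hG : Nat.card G = p ^ 2 * Nat.card K := by rw [← hK, mul_comm, Subgroup.card_mul_index]
  have hall : (Finset.univ.filter fun x => x ∉ K).card + Nat.card K = p ^ 2 * Nat.card K := by
    rw [← hG, Nat.card_eq_fintype_card, Nat.card_eq_fintype_card, Fintype.card_subtype, add_comm,
      Finset.card_filter_add_card_filter_not, Finset.card_univ]
  rw [← hcov, Finset.card_biUnion hdisj, Finset.sum_congr rfl (fun M _ => show (f M).card =
    (p - 1) * Nat.card K by
      have := hsize M
      rw [Nat.sub_mul, one_mul]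
      omega), Finset.sum_const, Finset.card_univ, smul_eq_mul, ← Nat.card_eq_fintype_card] at hall
  have hKpos := Nat.card_pos (α := K)
  have h5 : Nat.card (MaxOver p K) * (p - 1) + 1 = p ^ 2 := by
    apply Nat.eq_of_mul_eq_mul_right hKpos
    rw [← hall]; ring
  obtain ⟨q, hq, hq0⟩ : ∃ q, p = q + 1 ∧ 0 < q := ⟨p - 1, by have := hp.out.two_le; omega, by
    have := hp.out.two_le; omega⟩
  generalize Nat.card (MaxOver p K) = N at h5
  subst hq
  rw [Nat.add_sub_cancel] at h5
  apply Nat.eq_of_mul_eq_mul_right hq0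
  linarith

/-- The double count: `s (s - 1) = t p (p + 1)`. -/
theorem maxOver_modEq (hP : IsPGroup p G) {U : Subgroup G} (hU : U ≠ ⊤) :
    Nat.card (MaxOver p U) ≡ 1 + p * Nat.card (TwoOver p U) [MOD p ^ 2] := by
  classical
  have := Fintype.ofFinite (Subgroup G)
  have := Fintype.ofFinite (MaxOver p U)
  have := Fintype.ofFinite (TwoOver p U)
  have hs : Nat.card (MaxOver p U) ≡ 1 [MOD p] := Fg6.Kulakoff.card_maximal_above hP hU
  let g : {x : MaxOver p U × MaxOver p U // x.1 ≠ x.2} → TwoOver p U := fun x =>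
    ⟨x.1.1.1 ⊓ x.1.2.1, inf_index_of_ne hP x.1.1.2.1 x.1.2.2.1 fun h => x.2 (Subtype.ext h),
      le_inf (frattini_le_of_index hP x.1.1.2.1) (frattini_le_of_index hP x.1.2.2.1),
      le_inf x.1.1.2.2 x.1.2.2.2⟩
  have hfib : ∀ K : TwoOver p U, Nat.card {x // g x = K} = (p + 1) * p := by
    intro K
    have := Fintype.ofFinite (MaxOver p K.1)
    have e : {x // g x = K} ≃ {y : MaxOver p K.1 × MaxOver p K.1 // y.1 ≠ y.2} :=
      { toFun := fun x => ⟨(⟨x.1.1.1.1, x.1.1.1.2.1, (congrArg Subtype.val x.2).ge.trans inf_le_left⟩,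
          ⟨x.1.1.2.1, x.1.1.2.2.1, (congrArg Subtype.val x.2).ge.trans inf_le_right⟩),
          fun h => x.1.2 (Subtype.ext (congrArg (fun z : MaxOver p K.1 => z.1) h))⟩
        invFun := fun y => ⟨⟨(⟨y.1.1.1, y.1.1.2.1, K.2.2.2.trans y.1.1.2.2⟩,
          ⟨y.1.2.1, y.1.2.2.1, K.2.2.2.trans y.1.2.2.2⟩),
          fun h => y.2 (Subtype.ext (congrArg (fun z : MaxOver p U => z.1) h))⟩, by
            refine Subtype.ext ?_
            have hle : K.1 ≤ y.1.1.1 ⊓ y.1.2.1 := le_inf y.1.1.2.2 y.1.2.2.2
            refine (eq_of_le_of_not_lt hle fun hlt => ?_).symm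
            have h1 := inf_index_of_ne hP y.1.1.2.1 y.1.2.2.1 fun h => y.2 (Subtype.ext h)
            have h2 := Subgroup.index_strictAnti hlt
            rw [h1, K.2.1] at h2
            exact lt_irrefl _ h2⟩
        left_inv := fun x => by rfl
        right_inv := fun y => by rfl }
    rw [Nat.card_congr e, Nat.card_eq_fintype_card, Fintype.card_subtype]
    have : (Finset.univ.filter fun y : MaxOver p K.1 × MaxOver p K.1 => y.1 ≠ y.2) =
        (Finset.univ : Finset (MaxOver p K.1)).offDiag := by ext; simp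
    rw [this, Finset.offDiag_card, Finset.card_univ, ← Nat.card_eq_fintype_card,
      card_maxOver_two hP K.2.1 K.2.2.1, Nat.mul_succ, Nat.add_sub_cancel]
  have htot : Nat.card (MaxOver p U) * (Nat.card (MaxOver p U) - 1) =
      Nat.card (TwoOver p U) * ((p + 1) * p) := by
    have h1 : Nat.card {x : MaxOver p U × MaxOver p U // x.1 ≠ x.2} =
        Nat.card (MaxOver p U) * (Nat.card (MaxOver p U) - 1) := by
      rw [Nat.card_eq_fintype_card, Fintype.card_subtype]
      have : (Finset.univ.filter fun y : MaxOver p U × MaxOver p U => y.1 ≠ y.2) =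
          (Finset.univ : Finset (MaxOver p U)).offDiag := by ext; simp
      rw [this, Finset.offDiag_card, Finset.card_univ, ← Nat.card_eq_fintype_card, Nat.mul_sub,
        mul_one]
    rw [← h1, ← Nat.card_congr (Equiv.sigmaFiberEquiv g), Nat.card_sigma]
    simp_rw [hfib]
    rw [Finset.sum_const, Finset.card_univ, smul_eq_mul, ← Nat.card_eq_fintype_card]
  set s := Nat.card (MaxOver p U) with hsdef
  set t := Nat.card (TwoOver p U)
  have h1 : 1 ≤ s := by
    by_contra h
    have h0 : s = 0 := by omega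
    rw [h0] at hs
    exact hp.out.one_lt.ne' (Nat.dvd_one.mp ((Nat.modEq_iff_dvd' (by omega)).mp hs))
  obtain ⟨w, hw⟩ := (Nat.modEq_iff_dvd' h1).mp hs.symm
  have hsw : s = 1 + p * w := by omega
  rw [hw] at htot
  have h3 : s * w = t * (p + 1) := by
    apply Nat.eq_of_mul_eq_mul_right hp.out.pos
    rw [mul_assoc, mul_comm w, htot, ← mul_assoc]
  have h4 : w ≡ t [MOD p] := by
    have a1 : s * w ≡ 1 * w [MOD p] := hs.mul_right _
    rw [h3, one_mul, mul_add, mul_one] at a1
    exact (a1.symm.trans (by simp [Nat.ModEq]))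
  rw [hsw]
  exact Nat.ModEq.add_left 1 (by rw [pow_two]; exact h4.mul_left' p)

/-- Every proper subgroup of `G` contributes `1` to the alternating sum. -/
theorem cnt_add_modEq (hP : IsPGroup p G) {q : ℕ} (hq : q ≠ Nat.card G)
    [Fintype (MaxOver p (⊥ : Subgroup G))] [Fintype (TwoOver p (⊥ : Subgroup G))] :
    cnt G q + p * ∑ K : TwoOver p (⊥ : Subgroup G), cnt K.1 q ≡
      ∑ M : MaxOver p (⊥ : Subgroup G), cnt M.1 q [MOD p ^ 2] := by
  classical
  have := Fintype.ofFinite (Subgroup G)
  have := Fintype.ofFinite {H : Subgroup G // Nat.card H = q}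
  have hswap : ∀ (P : Subgroup G → Prop) [Fintype {X : Subgroup G // P X}],
      ∑ X : {X : Subgroup G // P X}, cnt X.1 q =
        ∑ H : {H : Subgroup G // Nat.card H = q}, Nat.card {X : Subgroup G // P X ∧ H.1 ≤ X} := by
    intro P _
    calc ∑ X : {X : Subgroup G // P X}, cnt X.1 q
        = ∑ X : {X : Subgroup G // P X},
            (Finset.univ.filter fun H : {H : Subgroup G // Nat.card H = q} => H.1 ≤ X.1).card := by
          refine Finset.sum_congr rfl fun X _ => ?_
          rw [cnt_eq, ← Fintype.card_subtype, ← Nat.card_eq_fintype_card]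
          exact Nat.card_congr (Equiv.subtypeSubtypeEquivSubtypeInter
            (fun H : Subgroup G => Nat.card H = q) (fun H => H ≤ X.1)).symm
      _ = ∑ H : {H : Subgroup G // Nat.card H = q},
            (Finset.univ.filter fun X : {X : Subgroup G // P X} => H.1 ≤ X.1).card :=
          Finset.sum_card_bipartiteAbove_eq_sum_card_bipartiteBelow
            (fun (X : {X : Subgroup G // P X}) (H : {H : Subgroup G // Nat.card H = q}) => H.1 ≤ X.1)
      _ = _ := by
          refine Finset.sum_congr rfl fun H _ => ?_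
          rw [← Fintype.card_subtype, ← Nat.card_eq_fintype_card]
          exact Nat.card_congr (Equiv.subtypeSubtypeEquivSubtypeInter P (fun X => H.1 ≤ X))
  rw [hswap, hswap, cnt, Nat.card_eq_fintype_card, ← Finset.card_univ, Finset.card_eq_sum_ones,
    Finset.mul_sum, ← Finset.sum_add_distrib]
  refine Nat.ModEq.symm (Nat.ModEq.sum fun H _ => ?_)
  have hne : H.1 ≠ ⊤ := fun h => hq (by rw [← H.2, h, Subgroup.card_top])
  have h := maxOver_modEq hP hne
  rwa [show Nat.card {X : Subgroup G // (X.index = p ∧ ⊥ ≤ X) ∧ H.1 ≤ X} = Nat.card (MaxOver p H.1)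
      from Nat.card_congr (Equiv.subtypeEquivRight fun X => by simp),
    show Nat.card {X : Subgroup G // (X.index = p ^ 2 ∧ frattini G ≤ X ∧ ⊥ ≤ X) ∧ H.1 ≤ X} =
      Nat.card (TwoOver p H.1) from Nat.card_congr (Equiv.subtypeEquivRight fun X => by simp [and_assoc])]

/-- In a noncyclic group the number of subgroups of index `p ^ 2` above `Φ` is `≡ 1 (mod p)`. -/
theorem twoOver_bot_modEq (hP : IsPGroup p G) (hnc : ¬ IsCyclic G) :
    Nat.card (TwoOver p (⊥ : Subgroup G)) ≡ 1 [MOD p] := by
  set Φ := frattini G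
  obtain ⟨e, he⟩ := IsPGroup.iff_card.mp (hP.to_quotient Φ)
  have he2 : 2 ≤ e := by
    by_contra h
    have : IsCyclic (G ⧸ Φ) := by
      rcases e with _ | _ | e
      · have : Subsingleton (G ⧸ Φ) := (Nat.card_eq_one_iff_unique.mp (by rw [he, pow_zero])).1
        exact isCyclic_of_subsingleton
      · exact isCyclic_of_prime_card (p := p) (by rw [he, pow_one])
      · omega
    exact hnc (PGroups.isCyclic_of_quotient_le_frattini Φ le_rfl)
  obtain ⟨i, rfl⟩ := Nat.exists_eq_add_of_le' he2
  have key : ∀ K : Subgroup (G ⧸ Φ), Nat.card K = p ^ i ↔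
      (K.comap (QuotientGroup.mk' Φ)).index = p ^ 2 := by
    intro K
    rw [Subgroup.index_comap_of_surjective _ (QuotientGroup.mk'_surjective Φ)]
    have h := K.card_mul_index
    rw [he, pow_add] at h
    constructor
    · intro h'; rw [h'] at h
      exact Nat.eq_of_mul_eq_mul_left (pow_pos hp.out.pos _) h
    · intro h'; rw [h'] at h
      exact Nat.eq_of_mul_eq_mul_right (pow_pos hp.out.pos 2) h
  have hcm : ∀ M : Subgroup G, Φ ≤ M →
      (M.map (QuotientGroup.mk' Φ)).comap (QuotientGroup.mk' Φ) = M := fun M hM => by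
    rw [Subgroup.comap_map_eq, QuotientGroup.ker_mk', sup_eq_left.2 hM]
  have e' : {K : Subgroup (G ⧸ Φ) // Nat.card K = p ^ i} ≃ TwoOver p (⊥ : Subgroup G) :=
    { toFun := fun K => ⟨K.1.comap (QuotientGroup.mk' Φ), (key K.1).1 K.2,
        QuotientGroup.le_comap_mk' Φ K.1, bot_le⟩
      invFun := fun M => ⟨M.1.map (QuotientGroup.mk' Φ), (key _).2 (by
        rw [hcm M.1 M.2.2.1]; exact M.2.1)⟩
      left_inv := fun K => Subtype.ext
        (Subgroup.map_comap_eq_self_of_surjective (QuotientGroup.mk'_surjective Φ) K.1)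
      right_inv := fun M => Subtype.ext (hcm M.1 M.2.2.1) }
  rw [← Nat.card_congr e']
  exact Fg6.SubgroupCount.card_subgroup_modEq_one p i hp.out
    ⟨p ^ 2, by rw [he, pow_add]⟩

/-- A noncyclic `p`-group has `1 + p (mod p ^ 2)` maximal subgroups. -/
theorem maxOver_bot_modEq (hP : IsPGroup p G) (hnc : ¬ IsCyclic G) :
    Nat.card (MaxOver p (⊥ : Subgroup G)) ≡ 1 + p [MOD p ^ 2] := by
  have hne : (⊥ : Subgroup G) ≠ ⊤ := fun h => hnc (by
    have : Subsingleton G := Subgroup.subsingleton_iff.mp (subsingleton_of_bot_eq_top h)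
    exact isCyclic_of_subsingleton)
  refine (maxOver_modEq hP hne).trans (Nat.ModEq.add_left 1 ?_)
  have := (twoOver_bot_modEq hP hnc).mul_left' p
  rwa [mul_one, ← pow_two] at this

end Cfsg.Agent.Lib.SubgroupCountSq
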