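import Cfsg.Agent.Lib.SubgroupCountSq.Enumerate
import Cfsg.Agent.Lib.PGroups.MaximalClass

/-!
# `2`-groups with derived factor group of order four inside the count modulo four
-/

set_option autoImplicit false

namespace Cfsg.Agent.Lib.SubgroupCountSq

open Cfsg.Agent.Lib
open scoped commutatorElement

variable {G : Type*} [Group G] [Finite G]

theorem exists_le_card {C : Subgroup G} {p j k : ℕ} [Fact p.Prime] (hC : Nat.card C = p ^ j)
    (hk : k ≤ j) : ∃ D : Subgroup G, D ≤ C ∧ Nat.card D = p ^ k := by
  obtain ⟨D, hD⟩ := Sylow.exists_subgroup_card_pow_prime (G := C) p (hC ▸ pow_dvd_pow p hk)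
  exact ⟨D.map C.subtype, Subgroup.map_subtype_le _,
    (Subgroup.card_map_of_injective C.subtype_injective).trans hD⟩

theorem eq_of_le_cyclic {C A B : Subgroup G} (hC : IsCyclic C) (hA : A ≤ C) (hB : B ≤ C)
    (h : Nat.card A = Nat.card B) : A = B := by
  have := Fg6.Kulakoff.eq_of_card_eq_of_isCyclic (A := A.subgroupOf C) (B := B.subgroupOf C)
    (by rw [Nat.card_congr (Subgroup.subgroupOfEquivOfLe hA).toEquiv,
      Nat.card_congr (Subgroup.subgroupOfEquivOfLe hB).toEquiv, h])
  rw [← Subgroup.map_subgroupOf_eq_of_le hA, ← Subgroup.map_subgroupOf_eq_of_le hB, this]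

/-- In a `2`-group of maximal class of order `2 ^ j` the subgroups of order `2 ^ k`, `1 ≤ k ≤ j - 2`,
are `1 (mod 4)` in number. -/
theorem cnt_maxClass_modEq {j k : ℕ} (hG : Nat.card G = 2 ^ j) (hd : (commutator G).index = 4)
    (hk : 1 ≤ k) (hkj : k + 2 ≤ j) : cnt G (2 ^ k) ≡ 1 [MOD 4] := by
  classical
  have := Fact.mk Nat.prime_two
  have := Fintype.ofFinite G
  obtain ⟨C, hC, hCi⟩ := PGroups.exists_cyclic_index_two j (by omega) hG hd
  have hCn := C.normal_of_index_eq_two hCi
  have hCc : IsMulCommutative C := hC.isMulCommutative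
  obtain ⟨J, rfl⟩ : ∃ J, j = J + 1 := ⟨j - 1, by omega⟩
  have hCcard : Nat.card C = 2 ^ J := card_eq_of_index hG hCi
  obtain ⟨D, hDC, hDcard⟩ := exists_le_card hCcard (show k - 1 ≤ J by omega)
  obtain ⟨E, hEC, hEcard⟩ := exists_le_card hCcard (show k ≤ J by omega)
  have hDn : D.Normal := by
    refine ⟨fun x hx g => ?_⟩
    have he : D.map (MulAut.conj g).toMonoidHom = D := by
      refine eq_of_le_cyclic hC ?_ hDC (Subgroup.card_map_of_injective (MulAut.conj g).injective)
      rintro _ ⟨y, hy, rfl⟩
      exact hCn.conj_mem y (hDC hy) g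
    exact he.le ⟨x, hx, rfl⟩
  let Y := {y : G // y ∉ C ∧ y * y ∈ D}
  -- the fibres
  have hsub : ∀ y : Y, Nat.card (D ⊔ Subgroup.zpowers y.1 : Subgroup G) = 2 ^ k ∧
      ¬ (D ⊔ Subgroup.zpowers y.1) ≤ C := by
    intro y
    refine ⟨?_, fun h => y.2.1 (h (le_sup_right (a := D) (Subgroup.mem_zpowers _)))⟩
    have hr : D.relIndex (D ⊔ Subgroup.zpowers y.1) = 2 := by
      rw [sup_comm, Subgroup.relIndex_sup_right]
      have hk' := Subgroup.relIndex_ker (K := Subgroup.zpowers y.1) (QuotientGroup.mk' D)
      rw [QuotientGroup.ker_mk'] at hk'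
      rw [hk', MonoidHom.map_zpowers, Nat.card_zpowers]
      refine orderOf_eq_prime ?_ fun h => y.2.1 (hDC ((QuotientGroup.eq_one_iff _).mp h))
      rw [pow_two, ← map_mul]
      exact (QuotientGroup.eq_one_iff _).mpr y.2.2
    have h := Subgroup.card_mul_index (D.subgroupOf (D ⊔ Subgroup.zpowers y.1))
    rw [Nat.card_congr (Subgroup.subgroupOfEquivOfLe le_sup_left).toEquiv, hDcard,
      ← Subgroup.relIndex, hr, ← pow_succ, Nat.sub_add_cancel hk] at h
    exact h.symm
  let T := {H : Subgroup G // Nat.card H = 2 ^ k ∧ ¬ H ≤ C}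
  let f : Y → T := fun y => ⟨_, hsub y⟩
  have hHC : ∀ H : T, H.1 ⊓ C = D := by
    intro H
    refine eq_of_le_cyclic hC inf_le_right hDC ?_
    have hr : C.relIndex H.1 = 2 := by
      have h := Subgroup.relIndex_dvd_index_of_normal C H.1
      rw [hCi] at h
      rcases (Nat.dvd_prime Nat.prime_two).mp h with h | h
      · exact absurd (Subgroup.relIndex_eq_one.mp h) H.2.2
      · exact h
    have h := Subgroup.card_mul_index ((H.1 ⊓ C).subgroupOf H.1)
    rw [Nat.card_congr (Subgroup.subgroupOfEquivOfLe inf_le_left).toEquiv, ← Subgroup.relIndex,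
      Subgroup.inf_relIndex_left, hr, H.2.1] at h
    rw [hDcard]
    conv_rhs at h => rw [← Nat.sub_add_cancel hk, pow_succ]
    exact Nat.eq_of_mul_eq_mul_right two_pos h
  have hfib : ∀ H : T, Nat.card {y : Y // f y = H} = 2 ^ (k - 1) := by
    intro H
    have e : {y : Y // f y = H} ≃ {x : G // x ∈ H.1 ∧ x ∉ C} :=
      { toFun := fun y => ⟨y.1.1, (congrArg Subtype.val y.2).le
          (le_sup_right (a := D) (Subgroup.mem_zpowers _)), y.1.2.1⟩
        invFun := fun x => ⟨⟨x.1, x.2.2, (hHC H).le
          ⟨H.1.mul_mem x.2.1 x.2.1, (Subgroup.mul_mem_iff_of_index_two hCi).mpr Iff.rfl⟩⟩, by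
            refine Subtype.ext (Subgroup.eq_of_le_of_card_ge
              (sup_le ((hHC H).ge.trans inf_le_left) (Subgroup.zpowers_le.mpr x.2.1)) ?_)
            exact le_of_eq (H.2.1.trans (hsub _).1.symm)⟩
        left_inv := fun y => rfl
        right_inv := fun x => rfl }
    have h1 : (Finset.univ.filter fun x => x ∈ H.1).card = 2 ^ k :=
      (Fintype.card_subtype _).symm.trans (Nat.card_eq_fintype_card.symm.trans H.2.1)
    have h2 : (Finset.univ.filter fun x => x ∈ D).card = 2 ^ (k - 1) := by
      rw [← hDcard, Nat.card_eq_fintype_card, Fintype.card_subtype]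
    have h3 := Finset.card_filter_add_card_filter_not (s := Finset.univ.filter fun x => x ∈ H.1)
      (fun x => x ∈ C)
    rw [Finset.filter_filter, Finset.filter_filter, h1] at h3
    rw [Nat.card_congr e, Nat.card_eq_fintype_card, Fintype.card_subtype]
    have h4 : (Finset.univ.filter fun x => x ∈ H.1 ∧ x ∈ C) = Finset.univ.filter fun x => x ∈ D := by
      ext x
      simp only [Finset.mem_filter, Finset.mem_univ, true_and]
      exact ⟨fun h => (hHC H).le h, fun h => (hHC H).ge h⟩
    rw [h4, h2] at h3
    have h5 : 2 ^ k = 2 ^ (k - 1) + 2 ^ (k - 1) := by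
      conv_lhs => rw [← Nat.sub_add_cancel hk]
      ring
    omega
  have hY : Nat.card Y = Nat.card T * 2 ^ (k - 1) := by
    have := Fintype.ofFinite T
    rw [← Nat.card_congr (Equiv.sigmaFiberEquiv f), Nat.card_sigma, Finset.sum_congr rfl
      (fun H _ => hfib H), Finset.sum_const, Finset.card_univ, smul_eq_mul, Nat.card_eq_fintype_card]
  have hfix : ∀ t ∉ C, Nat.card (C ⊓ Subgroup.centralizer ({t} : Set G) : Subgroup G) = 2 :=
    fun t ht => PGroups.card_fixed_eq_two C hCc hCi hd t ht
  have h4Y : 4 * 2 ^ (k - 1) ∣ Nat.card Y := by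
    rcases Nat.lt_or_ge k 2 with hk2 | hk2
    · obtain rfl : k = 1 := by omega
      have hDbot : D = ⊥ := Subgroup.eq_bot_of_card_eq _ (by rw [hDcard]; rfl)
      rw [Nat.sub_self, pow_zero, mul_one]
      rcases isEmpty_or_nonempty Y with h | ⟨⟨t, htC, htD⟩⟩
      · simp
      have htt : t * t = 1 := Subgroup.mem_bot.mp (hDbot ▸ htD)
      have hinv : ∀ c ∈ C, ∀ d ∈ C, c * d = d * c := fun c hc d hd => setLike_mul_comm hc hd
      let g : C →* G := MonoidHom.mk' (fun c => (c : G) * (t * c * t⁻¹)) fun a b => by
        show (a : G) * b * (t * (a * b) * t⁻¹) = (a : G) * (t * a * t⁻¹) * (b * (t * b * t⁻¹))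
        calc (a : G) * b * (t * (a * b) * t⁻¹) = a * (b * (t * a * t⁻¹)) * (t * b * t⁻¹) := by group
          _ = a * ((t * a * t⁻¹) * b) * (t * b * t⁻¹) := by
              rw [hinv b b.2 _ (hCn.conj_mem a a.2 t)]
          _ = _ := by group
      have hti : t⁻¹ = t := inv_eq_of_mul_eq_one_right htt
      have e : Y ≃ g.ker :=
        { toFun := fun y => ⟨⟨y.1 * t, (Subgroup.mul_mem_iff_of_index_two hCi).mpr
              (iff_of_false y.2.1 htC)⟩, by
            show y.1 * t * (t * (y.1 * t) * t⁻¹) = 1
            rw [mul_assoc t, mul_assoc y.1 t t⁻¹, mul_inv_cancel, mul_one, mul_assoc, ← mul_assoc t t,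
              htt, one_mul]
            exact Subgroup.mem_bot.mp (hDbot ▸ y.2.2)⟩
          invFun := fun c => ⟨c.1.1 * t, fun h => htC (by
              simpa using C.mul_mem (C.inv_mem c.1.2) h), by
            have h : c.1.1 * (t * c.1.1 * t⁻¹) = 1 := c.2
            rw [hti] at h
            have h' : c.1.1 * t * (c.1.1 * t) = 1 := by rw [← h]; group
            rw [h']; exact D.one_mem⟩
          left_inv := fun y => Subtype.ext (by simp [mul_assoc, htt])
          right_inv := fun c => Subtype.ext (Subtype.ext (by simp [mul_assoc, htt])) }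
      rw [Nat.card_congr e]
      have hmul : Nat.card g.ker * Nat.card g.range = 2 ^ J := by
        rw [← Subgroup.index_ker, Subgroup.card_mul_index, hCcard]
      have hle : g.range ≤ C ⊓ Subgroup.centralizer ({t} : Set G) := by
        rintro _ ⟨c, rfl⟩
        exact PGroups.mul_conj_mem_fixed C hCc (htt ▸ C.one_mem) c.2
      have hdvd := Subgroup.card_dvd_of_le hle
      rw [hfix t htC] at hdvd
      rcases (Nat.dvd_prime Nat.prime_two).mp hdvd with h | h <;> rw [h] at hmul
      · exact ⟨2 ^ (J - 2), by rw [← mul_one (Nat.card g.ker), hmul,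
          show (4 : ℕ) = 2 ^ 2 from rfl, ← pow_add, Nat.add_sub_cancel' (by omega)]⟩
      · rcases Nat.lt_or_ge J 3 with hJ | hJ
        · exfalso
          obtain rfl : J = 2 := by omega
          obtain ⟨c, hc⟩ := (Subgroup.isCyclic_iff_exists_zpowers_eq_top C).mp hC
          have hco : orderOf c = 4 := by rw [← Nat.card_zpowers, hc, hCcard]; rfl
          have hcC : c ∈ C := hc ▸ Subgroup.mem_zpowers c
          have hcon : t * c * t⁻¹ ∈ Subgroup.zpowers c := hc.symm ▸ hCn.conj_mem c hcC t
          obtain ⟨i, hi, hie⟩ := Finset.mem_image.mp (mem_zpowers_iff_mem_range_orderOf.mp hcon)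
          rw [Finset.mem_range, hco] at hi
          have ho : orderOf (c ^ i) = 4 := by
            rw [hie, show t * c * t⁻¹ = MulAut.conj t c from rfl, MulEquiv.orderOf_eq, hco]
          interval_cases i
          · simp at ho
          · rw [pow_one] at hie
            have hcF : Subgroup.zpowers c ≤ C ⊓ Subgroup.centralizer ({t} : Set G) := by
              rw [Subgroup.zpowers_le]
              exact ⟨hcC, Subgroup.mem_centralizer_singleton_iff.mpr
                (mul_inv_eq_iff_eq_mul.mp hie.symm).symm⟩
            have := Subgroup.card_dvd_of_le hcF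
            rw [hfix t htC, Nat.card_zpowers, hco] at this
            norm_num at this
          · simp [orderOf_pow', hco] at ho
          · have hg : g ⟨c, hcC⟩ = 1 := by
              show c * (t * c * t⁻¹) = 1
              rw [← hie, ← pow_succ', show 3 + 1 = 4 from rfl, ← hco, pow_orderOf_eq_one]
            have htop : g.ker = ⊤ := by
              refine eq_top_iff.mpr fun x _ => ?_
              obtain ⟨a, ha⟩ := (hc.symm ▸ x.2 : (x : G) ∈ Subgroup.zpowers c)
              have : x = ⟨c, hcC⟩ ^ a := Subtype.ext (by simpa using ha.symm)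
              rw [this, MonoidHom.mem_ker, map_zpow, hg, one_zpow]
            rw [htop, Subgroup.card_top, hCcard] at hmul
            norm_num at hmul
        · refine ⟨2 ^ (J - 3), Nat.eq_of_mul_eq_mul_right two_pos ?_⟩
          rw [hmul, show (4 : ℕ) = 2 ^ 2 from rfl, ← pow_add, ← pow_succ]
          congr 1; omega
    · have hall : ∀ y : G, y ∉ C → y * y ∈ D := by
        intro y hy
        obtain ⟨Z, hZD, hZ⟩ := exists_le_card hDcard (show 1 ≤ k - 1 by omega)
        rw [pow_one] at hZ
        have hfy := hfix y hy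
        have hm : y * y ∈ C ⊓ Subgroup.centralizer ({y} : Set G) :=
          ⟨(Subgroup.mul_mem_iff_of_index_two hCi).mpr Iff.rfl,
            Subgroup.mem_centralizer_singleton_iff.mpr (mul_assoc y y y)⟩
        rw [eq_of_le_cyclic hC inf_le_left (hZD.trans hDC) (hfy.trans hZ.symm)] at hm
        exact hZD hm
      have hYc : Nat.card Y = 2 ^ J := by
        have h1 : Nat.card Y = Nat.card {y : G // y ∉ C} :=
          Nat.card_congr (Equiv.subtypeEquivRight fun y => ⟨fun h => h.1, fun h => ⟨h, hall y h⟩⟩)
        rw [h1, Nat.card_eq_fintype_card, Fintype.card_subtype_compl, ← Nat.card_eq_fintype_card,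
          ← Nat.card_eq_fintype_card, hG, hCcard, pow_succ]
        omega
      rw [hYc, show (4 : ℕ) = 2 ^ 2 from rfl, ← pow_add]
      exact pow_dvd_pow 2 (by omega)
  rw [hY] at h4Y
  have hT : 4 ∣ Nat.card T := Nat.dvd_of_mul_dvd_mul_right (pow_pos two_pos _) h4Y
  have hsplit : cnt G (2 ^ k) = 1 + Nat.card T := by
    have := Fintype.ofFinite (Subgroup G)
    have h1 : (Finset.univ.filter fun H : Subgroup G => Nat.card H = 2 ^ k ∧ H ≤ C) = {E} := by
      ext H
      simp only [Finset.mem_filter, Finset.mem_univ, true_and, Finset.mem_singleton]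
      exact ⟨fun h => eq_of_le_cyclic hC h.2 hEC (h.1.trans hEcard.symm), fun h => h ▸ ⟨hEcard, hEC⟩⟩
    have h3 := Finset.card_filter_add_card_filter_not
      (s := Finset.univ.filter fun H : Subgroup G => Nat.card H = 2 ^ k) (fun H => H ≤ C)
    rw [Finset.filter_filter, Finset.filter_filter, h1, Finset.card_singleton] at h3
    rw [cnt, Nat.card_eq_fintype_card, Fintype.card_subtype, ← h3, Nat.card_eq_fintype_card,
      Fintype.card_subtype]
  rw [hsplit]
  obtain ⟨w, hw⟩ := hT
  rw [hw]
  simp [Nat.ModEq]

/-- In a `2`-group with derived factor group not of order four the maximal subgroups with derived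
factor group of order four are even in number. -/
theorem even_card_maxClass_maxOver {m : ℕ} (hG : Nat.card G = 2 ^ (m + 4)) (hnc : ¬ IsCyclic G)
    (h2 : (commutator G).index ≠ 4) :
    2 ∣ Nat.card {M : MaxOver 2 (⊥ : Subgroup G) // (commutator M.1).index = 4} := by
  classical
  have := Fact.mk Nat.prime_two
  have hP : IsPGroup 2 G := IsPGroup.of_card hG
  rcases isEmpty_or_nonempty {M : MaxOver 2 (⊥ : Subgroup G) // (commutator M.1).index = 4} with h | h
  · simp
  obtain ⟨⟨⟨M, hMi, hMbot⟩, hM⟩⟩ := h
  have hM' : (commutator M).map M.subtype ≤ commutator G := by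
    rw [commutator_def, Subgroup.map_commutator]
    exact Subgroup.commutator_mono le_top le_top
  have hMc : Nat.card M = 2 ^ (m + 3) := card_eq_of_index hG hMi
  have hM'card : Nat.card ((commutator M).map M.subtype) = 2 ^ (m + 1) := by
    rw [Subgroup.card_map_of_injective M.subtype_injective]
    have h := (commutator M).card_mul_index
    rw [hM, hMc, show m + 3 = (m + 1) + 2 from rfl, pow_add] at h
    exact Nat.eq_of_mul_eq_mul_right (by norm_num) (h.trans rfl)
  have hGeq : commutator G = (commutator M).map M.subtype := by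
    refine (Subgroup.eq_of_le_of_card_ge hM' ?_).symm
    rw [hM'card]
    have hle : Nat.card (commutator G) ∣ Nat.card G := Subgroup.card_subgroup_dvd_card _
    rw [hG] at hle
    obtain ⟨i, hi, hi'⟩ := (Nat.dvd_prime_pow Nat.prime_two).mp hle
    rw [hi']
    refine Nat.pow_le_pow_right two_pos ?_
    by_contra hlt
    have h := (commutator G).card_mul_index
    rw [hi', hG] at h
    have hidx : (commutator G).index = 2 ^ (m + 4 - i) := by
      apply Nat.eq_of_mul_eq_mul_left (pow_pos two_pos i)
      rw [h, ← pow_add, Nat.add_sub_cancel' hi]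
    rcases Nat.lt_or_ge (m + 4 - i) 2 with hsmall | hsmall
    · apply hnc
      have : IsCyclic (G ⧸ commutator G) := by
        rcases Nat.lt_or_ge (m + 4 - i) 1 with h0 | h0
        · have : Subsingleton (G ⧸ commutator G) := (Nat.card_eq_one_iff_unique.mp (by
            rw [← Subgroup.index_eq_card, hidx, show m + 4 - i = 0 by omega, pow_zero])).1
          exact isCyclic_of_subsingleton
        · exact isCyclic_of_prime_card (p := 2) (by
            rw [← Subgroup.index_eq_card, hidx, show m + 4 - i = 1 by omega, pow_one])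
      exact PGroups.isCyclic_of_cyclic_quotient_commutator hP
    · exact h2 (by rw [hidx, show m + 4 - i = 2 by omega]; rfl)
  have hG'card : Nat.card (commutator G) = 2 ^ (m + 1) := hGeq ▸ hM'card
  have hcyc : IsCyclic (commutator G) := by
    obtain ⟨C, hC, hCi⟩ := PGroups.exists_cyclic_index_two (m + 3) (by omega) hMc hM
    have hle : commutator M ≤ C :=
      (PGroups.commutator_le_frattini (hP.to_subgroup M)).trans
        (frattini_le_of_index (hP.to_subgroup M) hCi)
    have : IsCyclic (commutator M) := Subgroup.isCyclic_of_le hle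
    rw [hGeq]
    exact ((commutator M).equivMapOfInjective M.subtype M.subtype_injective).isCyclic.mp this
  obtain ⟨Q, hQG', hQcard⟩ := exists_le_card (p := 2) hG'card (show m ≤ m + 1 by omega)
  have hQn : Q.Normal := by
    refine ⟨fun x hx g => ?_⟩
    have he : Q.map (MulAut.conj g).toMonoidHom = Q := by
      refine eq_of_le_cyclic hcyc ?_ hQG' (Subgroup.card_map_of_injective (MulAut.conj g).injective)
      rintro _ ⟨y, hy, rfl⟩
      exact (inferInstance : (commutator G).Normal).conj_mem y (hQG' hy) g
    exact he.le ⟨x, hx, rfl⟩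
  let π := QuotientGroup.mk' Q
  -- `L' = G'` iff the image of `L` modulo `Q` is not commutative
  have hiff : ∀ L : MaxOver 2 (⊥ : Subgroup G), (commutator L.1).index = 4 ↔
      ¬ ∀ x ∈ L.1, ∀ y ∈ L.1, π x * π y = π y * π x := by
    intro L
    have hLc : Nat.card L.1 = 2 ^ (m + 3) := card_eq_of_index hG L.2.1
    have hL' : (commutator L.1).map L.1.subtype ≤ commutator G := by
      rw [commutator_def, Subgroup.map_commutator]
      exact Subgroup.commutator_mono le_top le_top
    have hcardeq : Nat.card ((commutator L.1).map L.1.subtype) = Nat.card (commutator L.1) :=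
      Subgroup.card_map_of_injective L.1.subtype_injective
    have hidx := (commutator L.1).card_mul_index
    rw [hLc] at hidx
    constructor
    · intro h hall
      have hle : (commutator L.1).map L.1.subtype ≤ Q := by
        rw [commutator_def, Subgroup.map_commutator, Subgroup.commutator_le]
        rintro _ ⟨a, -, rfl⟩ _ ⟨b, -, rfl⟩
        rw [← QuotientGroup.eq_one_iff]
        show π ⁅(a : G), (b : G)⁆ = 1
        rw [map_commutatorElement, commutatorElement_eq_one_iff_mul_comm]
        exact hall a a.2 b b.2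
      have h1 := Subgroup.card_le_of_le hle
      rw [hcardeq, hQcard] at h1
      rw [h, show m + 3 = (m + 1) + 2 from rfl, pow_add] at hidx
      rw [Nat.eq_of_mul_eq_mul_right (by norm_num) (hidx.trans rfl)] at h1
      exact absurd h1 (by rw [pow_succ]; have := pow_pos (two_pos : (0:ℕ) < 2) m; omega)
    · intro h
      push Not at h
      obtain ⟨x, hx, y, hy, hxy⟩ := h
      have hmem : ⁅x, y⁆ ∈ (commutator L.1).map L.1.subtype :=
        ⟨⁅(⟨x, hx⟩ : L.1), ⟨y, hy⟩⁆, Subgroup.commutator_mem_commutator (Subgroup.mem_top _)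
          (Subgroup.mem_top _), map_commutatorElement L.1.subtype _ _⟩
      have heq : (commutator L.1).map L.1.subtype = commutator G := by
        rcases Nat.lt_or_ge (Nat.card ((commutator L.1).map L.1.subtype)) (2 ^ (m + 1)) with hlt | hge
        · exfalso
          obtain ⟨i, hi, hi'⟩ := (Nat.dvd_prime_pow Nat.prime_two).mp
            (hG'card ▸ Subgroup.card_dvd_of_le hL')
          rw [hi'] at hlt
          have him := (Nat.pow_lt_pow_iff_right one_lt_two).mp hlt
          obtain ⟨R, hRQ, hR⟩ := exists_le_card hQcard (show i ≤ m by omega)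
          have hle : (commutator L.1).map L.1.subtype ≤ Q :=
            (eq_of_le_cyclic hcyc hL' (hRQ.trans hQG') (hi'.trans hR.symm)).le.trans hRQ
          apply hxy
          rw [← commutatorElement_eq_one_iff_mul_comm, ← map_commutatorElement]
          exact (QuotientGroup.eq_one_iff _).mpr (hle hmem)
        · exact Subgroup.eq_of_le_of_card_ge hL' (hG'card ▸ hge)
      rw [heq, hG'card] at hcardeq
      rw [← hcardeq] at hidx
      replace hidx := hidx.trans (pow_add 2 (m + 1) 2)
      exact (Nat.eq_of_mul_eq_mul_left (pow_pos two_pos _) hidx).trans rfl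
  -- central commutators of order two modulo `Q`
  have hFc : Nat.card ((commutator G).map π) = 2 := by
    rw [← Subgroup.relIndex_ker, QuotientGroup.ker_mk', Subgroup.relIndex]
    have h := Subgroup.card_mul_index (Q.subgroupOf (commutator G))
    rw [Nat.card_congr (Subgroup.subgroupOfEquivOfLe hQG').toEquiv, hQcard, hG'card, pow_succ] at h
    exact Nat.eq_of_mul_eq_mul_left (pow_pos two_pos m) h
  have hFcent : (commutator G).map π ≤ Subgroup.center (G ⧸ Q) := by
    have := (inferInstance : (commutator G).Normal).map π (QuotientGroup.mk'_surjective Q)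
    have hne : (commutator G).map π ≠ ⊥ := fun h => by
      rw [h, Subgroup.card_bot] at hFc; omega
    have hi := PGroups.normal_inf_center_ne_bot (hP.to_quotient Q) _ hne
    have hd := Subgroup.card_dvd_of_le
      (inf_le_left : (commutator G).map π ⊓ Subgroup.center _ ≤ (commutator G).map π)
    rw [hFc] at hd
    rcases (Nat.dvd_prime Nat.prime_two).mp hd with h | h
    · exact absurd (Subgroup.eq_bot_of_card_eq _ h) hi
    · exact (Subgroup.eq_of_le_of_card_ge inf_le_left (by rw [h, hFc])).ge.trans inf_le_right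
  have hQc : Nat.card (G ⧸ Q) = 16 := by
    rw [← Subgroup.index_eq_card]
    have h := Q.card_mul_index
    rw [hQcard, hG, pow_add] at h
    exact Nat.eq_of_mul_eq_mul_left (pow_pos two_pos m) (h.trans rfl)
  set X := G ⧸ Q
  obtain ⟨x₀, hx₀⟩ : ∃ x₀ : X, x₀ ∉ Subgroup.center X := by
    by_contra! hall
    have hQ : commutator G ≤ Q := by
      rw [commutator_def, Subgroup.commutator_le]
      intro a _ b _
      rw [← QuotientGroup.eq_one_iff]
      show π ⁅a, b⁆ = 1
      rw [map_commutatorElement, commutatorElement_eq_one_iff_mul_comm]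
      exact (Subgroup.mem_center_iff.mp (hall (π a)) (π b)).symm
    have := Subgroup.card_le_of_le hQ
    rw [hQcard, hG'card, pow_succ] at this
    have := pow_pos (two_pos : (0:ℕ) < 2) m
    omega
  have hcomm : ∀ a b : X, ⁅a, b⁆ ∈ (commutator G).map π := by
    intro a b
    obtain ⟨a', rfl⟩ := QuotientGroup.mk'_surjective Q a
    obtain ⟨b', rfl⟩ := QuotientGroup.mk'_surjective Q b
    rw [← map_commutatorElement]
    exact Subgroup.mem_map_of_mem _ (Subgroup.commutator_mem_commutator (Subgroup.mem_top _)
      (Subgroup.mem_top _))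
  let δ : X →* X := MonoidHom.mk' (fun g => ⁅g, x₀⁆) fun a b => by
    have hz := Subgroup.mem_center_iff.mp (hFcent (hcomm b x₀))
    show ⁅a * b, x₀⁆ = ⁅a, x₀⁆ * ⁅b, x₀⁆
    calc ⁅a * b, x₀⁆ = a * ⁅b, x₀⁆ * a⁻¹ * ⁅a, x₀⁆ := by
          simp only [commutatorElement_def]; group
      _ = ⁅b, x₀⁆ * ⁅a, x₀⁆ := by rw [hz a, mul_inv_cancel_right]
      _ = _ := (hz _).symm
  have hδk : ∀ g, g ∈ δ.ker ↔ g * x₀ = x₀ * g := fun g => by
    rw [MonoidHom.mem_ker]
    exact commutatorElement_eq_one_iff_mul_comm
  have hδ : δ.ker.index = 2 := by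
    have hle : δ.range ≤ (commutator G).map π := by rintro _ ⟨g, rfl⟩; exact hcomm g x₀
    have h := Subgroup.card_dvd_of_le hle
    rw [hFc, ← Subgroup.index_ker] at h
    rcases (Nat.dvd_prime Nat.prime_two).mp h with h | h
    · exfalso
      apply hx₀
      rw [Subgroup.index_eq_one] at h
      exact Subgroup.mem_center_iff.mpr fun g => (hδk g).mp (h ▸ Subgroup.mem_top g)
    · exact h
  set A := δ.ker with hA
  set Z := Subgroup.center X
  have hAcomm : ∀ a ∈ A, ∀ b ∈ A, a * b = b * a := by
    have hZA : Z ≤ A := fun z hz => (hδk z).mpr ((Subgroup.mem_center_iff.mp hz x₀).symm)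
    have hA8 : Nat.card A = 8 := by
      have h := A.card_mul_index
      rw [hδ, hQc] at h
      omega
    have hx₀A : x₀ ∈ A := (hδk x₀).mpr rfl
    set B := Z.subgroupOf A ⊔ Subgroup.zpowers ⟨x₀, hx₀A⟩ with hB
    have hBc : B ≤ Subgroup.center A := by
      refine sup_le (fun z hz => Subgroup.mem_center_iff.mpr fun g => Subtype.ext
        (Subgroup.mem_center_iff.mp (Subgroup.mem_subgroupOf.mp hz) g)) ?_
      rw [Subgroup.zpowers_le]
      exact Subgroup.mem_center_iff.mpr fun g => Subtype.ext ((hδk g).mp g.2)
    have hlt : Z.subgroupOf A < B := lt_of_le_of_ne le_sup_left fun he => hx₀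
      (Subgroup.mem_subgroupOf.mp (he.ge (le_sup_right (a := Z.subgroupOf A) (Subgroup.mem_zpowers _))))
    have hBcard : 4 ≤ Nat.card B := by
      have hZ2 : 2 ≤ Nat.card (Z.subgroupOf A) := by
        rw [Nat.card_congr (Subgroup.subgroupOfEquivOfLe hZA).toEquiv]
        have := Subgroup.card_le_of_le hFcent
        rw [hFc] at this
        exact this
      have hd := Subgroup.card_dvd_of_le hlt.le
      obtain ⟨r, hr⟩ := hd
      rcases r with _ | _ | r
      · have := Nat.card_pos (α := B); simp [hr] at this
      · exact absurd (Subgroup.eq_of_le_of_card_ge hlt.le (by rw [hr]; simp)) hlt.ne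
      · rw [hr]; nlinarith
    have hcentA : 4 ≤ Nat.card (Subgroup.center A) := hBcard.trans (Subgroup.card_le_of_le hBc)
    have hq : IsCyclic (A ⧸ Subgroup.center A) := by
      have h1 := (Subgroup.center A).card_mul_index
      rw [hA8, Subgroup.index_eq_card] at h1
      have h2 : Nat.card (A ⧸ Subgroup.center A) ≤ 2 := by nlinarith
      have h3 := Nat.card_pos (α := A ⧸ Subgroup.center A)
      rcases Nat.lt_or_ge (Nat.card (A ⧸ Subgroup.center A)) 2 with h | h
      · have : Subsingleton (A ⧸ Subgroup.center A) :=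
          (Nat.card_eq_one_iff_unique.mp (by omega)).1
        exact isCyclic_of_subsingleton
      · exact isCyclic_of_prime_card (p := 2) (by omega)
    intro a ha b hb
    exact congrArg Subtype.val (commutative_of_cyclic_center_quotient (QuotientGroup.mk' (Subgroup.center A))
      (by rw [QuotientGroup.ker_mk']) (⟨a, ha⟩ : A) ⟨b, hb⟩)
  let A₀ : MaxOver 2 (⊥ : Subgroup G) := ⟨A.comap π, by
    rw [Subgroup.index_comap_of_surjective _ (QuotientGroup.mk'_surjective Q), hδ], bot_le⟩
  -- commutative images: one or three of them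
  let Ab := {L : MaxOver 2 (⊥ : Subgroup G) // ∀ x ∈ L.1, ∀ y ∈ L.1, π x * π y = π y * π x}
  have hA₀ : ∀ x ∈ A₀.1, ∀ y ∈ A₀.1, π x * π y = π y * π x := fun x hx y hy =>
    hAcomm _ hx _ hy
  have hs : Odd (Nat.card (MaxOver 2 (⊥ : Subgroup G))) := by
    have h : Nat.card (MaxOver 2 (⊥ : Subgroup G)) ≡ 1 [MOD 2] :=
      Fg6.Kulakoff.card_maximal_above hP fun h => hnc (by
        have : Subsingleton G := Subgroup.subsingleton_iff.mp (subsingleton_of_bot_eq_top h)
        exact isCyclic_of_subsingleton)
    exact Nat.odd_iff.mpr h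
  have hab : Odd (Nat.card Ab) := by
    by_cases huniq : ∀ L : Ab, L.1 = A₀
    · have : Nat.card Ab = 1 := Nat.card_eq_one_iff_unique.mpr
        ⟨⟨fun a b => Subtype.ext ((huniq a).trans (huniq b).symm)⟩, ⟨⟨A₀, hA₀⟩⟩⟩
      rw [this]; exact odd_one
    push Not at huniq
    obtain ⟨⟨L, hL⟩, hne⟩ := huniq
    set K := L.1 ⊓ A₀.1
    have hKi := inf_index_of_ne hP L.2.1 A₀.2.1 fun h => hne (Subtype.ext h)
    have hKcent : ∀ x ∈ K, ∀ g : G, π g * π x = π x * π g := by
      intro x hx g
      have hgsup : L.1 ⊔ A₀.1 ≤ (Subgroup.centralizer ({π x} : Set X)).comap π := by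
        refine sup_le (fun y hy => ?_) (fun y hy => ?_) <;>
          rw [Subgroup.mem_comap, Subgroup.mem_centralizer_singleton_iff]
        · exact hL y hy x hx.1
        · exact hA₀ y hy x hx.2
      have htop : L.1 ⊔ A₀.1 = ⊤ := by
        rw [← Subgroup.index_eq_one]
        have h := Subgroup.index_dvd_of_le (le_sup_left : L.1 ≤ L.1 ⊔ A₀.1)
        rw [L.2.1] at h
        rcases (Nat.dvd_prime Nat.prime_two).mp h with h | h
        · exact h
        · exfalso
          apply hne
          have h1 := Subgroup.relIndex_mul_index (le_sup_left : L.1 ≤ L.1 ⊔ A₀.1)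
          have h2 := Subgroup.relIndex_mul_index (le_sup_right : A₀.1 ≤ L.1 ⊔ A₀.1)
          rw [h, L.2.1] at h1
          rw [h, A₀.2.1] at h2
          have h1' : L.1.relIndex (L.1 ⊔ A₀.1) = 1 := by omega
          have h2' : A₀.1.relIndex (L.1 ⊔ A₀.1) = 1 := by omega
          exact Subtype.ext (le_antisymm (le_sup_left.trans (Subgroup.relIndex_eq_one.mp h2'))
            (le_sup_right.trans (Subgroup.relIndex_eq_one.mp h1')))
      exact Subgroup.mem_centralizer_singleton_iff.mp (hgsup (htop ▸ Subgroup.mem_top g))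
    have hKΦ : frattini G ≤ K :=
      le_inf (frattini_le_of_index hP L.2.1) (frattini_le_of_index hP A₀.2.1)
    have hiff2 : ∀ M : MaxOver 2 (⊥ : Subgroup G),
        (∀ x ∈ M.1, ∀ y ∈ M.1, π x * π y = π y * π x) ↔ K ≤ M.1 := by
      intro M
      constructor
      · intro hM'
        by_contra hKM
        apply hx₀
        have htop : M.1 ⊔ K = ⊤ := by
          rw [← Subgroup.index_eq_one]
          have h := Subgroup.index_dvd_of_le (le_sup_left : M.1 ≤ M.1 ⊔ K)
          rw [M.2.1] at h
          rcases (Nat.dvd_prime Nat.prime_two).mp h with h | h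
          · exact h
          · exfalso
            have h1 := Subgroup.relIndex_mul_index (le_sup_left : M.1 ≤ M.1 ⊔ K)
            rw [h, M.2.1] at h1
            have h1' : M.1.relIndex (M.1 ⊔ K) = 1 := by omega
            exact hKM (le_sup_right.trans (Subgroup.relIndex_eq_one.mp h1'))
        have hc : ∀ a b : G, π a * π b = π b * π a := by
          intro a b
          have hb : ∀ u ∈ M.1, π b * π u = π u * π b := fun u hu => by
            have h : M.1 ⊔ K ≤ (Subgroup.centralizer ({π u} : Set X)).comap π := by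
              refine sup_le (fun y hy => ?_) (fun y hy => ?_) <;>
                rw [Subgroup.mem_comap, Subgroup.mem_centralizer_singleton_iff]
              · exact hM' y hy u hu
              · exact (hKcent y hy u).symm
            exact Subgroup.mem_centralizer_singleton_iff.mp (h (htop ▸ Subgroup.mem_top b))
          have h : M.1 ⊔ K ≤ (Subgroup.centralizer ({π b} : Set X)).comap π := by
            refine sup_le (fun y hy => ?_) (fun y hy => ?_) <;>
              rw [Subgroup.mem_comap, Subgroup.mem_centralizer_singleton_iff]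
            · exact (hb y hy).symm
            · exact (hKcent y hy b).symm
          exact Subgroup.mem_centralizer_singleton_iff.mp (h (htop ▸ Subgroup.mem_top a))
        refine Subgroup.mem_center_iff.mpr fun g => ?_
        obtain ⟨a, ha⟩ := QuotientGroup.mk'_surjective Q g
        obtain ⟨b, hb⟩ := QuotientGroup.mk'_surjective Q x₀
        rw [← ha, ← hb]
        exact hc a b
      · intro hKM x hx y hy
        by_cases hxK : x ∈ K
        · exact (hKcent x hxK y).symm
        -- `x` and `K` generate `M`
        have hgen : K ⊔ Subgroup.zpowers x = M.1 := by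
          have hle : K ⊔ Subgroup.zpowers x ≤ M.1 := sup_le hKM (Subgroup.zpowers_le.mpr hx)
          have hlt : K < K ⊔ Subgroup.zpowers x := lt_of_le_of_ne le_sup_left fun he =>
            hxK (he ▸ le_sup_right (a := K) (Subgroup.mem_zpowers x))
          have h1 := Subgroup.index_strictAnti hlt
          have h2 := Subgroup.index_dvd_of_le hle
          rw [M.2.1] at h2
          have h3 : (K ⊔ Subgroup.zpowers x).index ∣ K.index := Subgroup.index_dvd_of_le le_sup_left
          rw [hKi] at h1 h3
          obtain ⟨i, hi, hi'⟩ := (Nat.dvd_prime_pow Nat.prime_two).mp h3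
          rw [hi'] at h1 h2
          have hi1 : i = 1 := by
            have := (Nat.pow_lt_pow_iff_right one_lt_two).mp h1
            rcases i with _ | i
            · norm_num at h2
            · omega
          refine le_antisymm hle (Subgroup.relIndex_eq_one.mp ?_)
          have h4 := Subgroup.relIndex_mul_index hle
          rw [hi', hi1, pow_one, M.2.1] at h4
          omega
        have h : K ⊔ Subgroup.zpowers x ≤ (Subgroup.centralizer ({π x} : Set X)).comap π := by
          refine sup_le (fun z hz => ?_) (Subgroup.zpowers_le.mpr ?_)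
          · rw [Subgroup.mem_comap, Subgroup.mem_centralizer_singleton_iff]
            exact (hKcent z hz x).symm
          · rw [Subgroup.mem_comap, Subgroup.mem_centralizer_singleton_iff]
        exact (Subgroup.mem_centralizer_singleton_iff.mp (h (hgen ▸ hy))).symm
    have hk3 : Nat.card Ab = Nat.card (MaxOver 2 K) := by
      refine Nat.card_congr ((Equiv.subtypeEquivRight hiff2).trans
        ((Equiv.subtypeSubtypeEquivSubtypeInter _ _).trans
          (Equiv.subtypeEquivRight fun X => by simp)))
    rw [hk3, card_maxOver_two hP hKi hKΦ]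
    decide
  have := Fintype.ofFinite (MaxOver 2 (⊥ : Subgroup G))
  rw [Nat.card_congr (Equiv.subtypeEquivRight hiff), Nat.card_eq_fintype_card,
    Fintype.card_subtype_compl, ← Nat.card_eq_fintype_card, ← Nat.card_eq_fintype_card]
  exact (Nat.Odd.sub_odd hs hab).two_dvd

end Cfsg.Agent.Lib.SubgroupCountSq
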