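import Cfsg.Agent.Lib.SubgroupCountSq.Cyclic
import Cfsg.Agent.Lib.SubgroupCountSq.MaxClass

/-!
# Kulakoff's theorem: `1 + p (mod p ^ 2)` subgroups of each proper order
-/

set_option autoImplicit false

namespace Cfsg.Agent.Lib.SubgroupCountSq

open Cfsg.Agent.Lib

universe u

theorem cnt_cyclic {C : Type u} [Group C] [Finite C] [IsCyclic C] {p j k : ℕ} [Fact p.Prime]
    (hC : Nat.card C = p ^ j) (hk : k ≤ j) : cnt C (p ^ k) = 1 := by
  obtain ⟨D, hD⟩ := Sylow.exists_subgroup_card_pow_prime (G := C) p (hC ▸ pow_dvd_pow p hk)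
  exact Nat.card_eq_one_iff_unique.mpr
    ⟨⟨fun A B => Subtype.ext (Fg6.Kulakoff.eq_of_card_eq_of_isCyclic (A.2.trans B.2.symm))⟩,
      ⟨⟨D, hD⟩⟩⟩

theorem kulakoff : ∀ (n : ℕ) {G : Type u} [Group G] [Finite G] {p : ℕ} [Fact p.Prime],
    Nat.card G = p ^ n → ¬ IsCyclic G → (p = 2 → (commutator G).index ≠ 4) →
    ∀ k, 1 ≤ k → k < n → cnt G (p ^ k) ≡ 1 + p [MOD p ^ 2] := by
  intro n
  induction n using Nat.strong_induction_on with
  | _ n ih =>
  intro G _ _ p _ hG hnc h2 k hk hkn
  classical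
  have hpp : p.Prime := Fact.out
  have hP : IsPGroup p G := IsPGroup.of_card hG
  rcases Nat.lt_or_ge (k + 1) n with hk1 | hk1
  swap
  · -- the maximal subgroups
    obtain rfl : n = k + 1 := by omega
    have he : cnt G (p ^ k) = Nat.card (MaxOver p (⊥ : Subgroup G)) := by
      refine Nat.card_congr (Equiv.subtypeEquivRight fun H => ⟨fun h => ⟨?_, bot_le⟩,
        fun h => card_eq_of_index hG h.1⟩)
      have h1 := H.card_mul_index
      rw [h, hG, pow_succ] at h1
      exact Nat.eq_of_mul_eq_mul_left (pow_pos hpp.pos k) h1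
    rw [he]
    exact maxOver_bot_modEq hP hnc
  obtain ⟨m, rfl⟩ : ∃ m, n = m + 3 := ⟨n - 3, by omega⟩
  have := Fintype.ofFinite (MaxOver p (⊥ : Subgroup G))
  have := Fintype.ofFinite (TwoOver p (⊥ : Subgroup G))
  have hid := cnt_add_modEq (p := p) hP (q := p ^ k) (by
    rw [hG]; exact fun h => absurd (Nat.pow_right_injective hpp.two_le h) (by omega))
  -- the subgroups of index `p ^ 2`
  have htwo : p * ∑ K : TwoOver p (⊥ : Subgroup G), cnt K.1 (p ^ k) ≡ p [MOD p ^ 2] := by
    have h1 : ∑ K : TwoOver p (⊥ : Subgroup G), cnt K.1 (p ^ k) ≡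
        ∑ K : TwoOver p (⊥ : Subgroup G), 1 [MOD p] := by
      refine Nat.ModEq.sum fun K _ => Fg6.SubgroupCount.card_subgroup_modEq_one p k hpp ?_
      have h := K.1.card_mul_index
      rw [K.2.1, hG, show m + 3 = (m + 1) + 2 from rfl, pow_add] at h
      rw [Nat.eq_of_mul_eq_mul_right (pow_pos hpp.pos 2) h]
      exact (pow_dvd_pow p (show k ≤ m + 1 by omega)).trans dvd_rfl
    rw [Finset.sum_const, Finset.card_univ, smul_eq_mul, mul_one, ← Nat.card_eq_fintype_card] at h1
    have h3 := (h1.trans (twoOver_bot_modEq hP hnc)).mul_left' p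
    rwa [mul_one, ← pow_two] at h3
  -- the maximal subgroups
  set bad : MaxOver p (⊥ : Subgroup G) → Prop := fun M =>
    IsCyclic M.1 ∨ (k + 1 < m + 2 ∧ p = 2 ∧ (commutator M.1).index = 4) with hbad
  have hM : ∀ M : MaxOver p (⊥ : Subgroup G),
      cnt M.1 (p ^ k) + (if bad M then p else 0) ≡ 1 + p [MOD p ^ 2] := by
    intro M
    have hMc : Nat.card M.1 = p ^ (m + 2) := card_eq_of_index hG M.2.1
    by_cases hb : bad M
    · rw [if_pos hb]
      refine Nat.ModEq.add_right p ?_
      rcases hb with hc | ⟨hk2, rfl, hd⟩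
      · rw [cnt_cyclic hMc (by omega)]
      · exact cnt_maxClass_modEq hMc hd hk (by omega)
    · rw [if_neg hb, add_zero]
      simp only [hbad, not_or, not_and] at hb
      rcases Nat.lt_or_ge (k + 1) (m + 2) with hk2 | hk2
      · exact ih (m + 2) (by omega) hMc hb.1 (fun h => hb.2 hk2 h) k hk (by omega)
      · have he : cnt M.1 (p ^ k) = Nat.card (MaxOver p (⊥ : Subgroup M.1)) := by
          obtain rfl : k = m + 1 := by omega
          refine Nat.card_congr (Equiv.subtypeEquivRight fun H => ⟨fun h => ⟨?_, bot_le⟩,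
            fun h => card_eq_of_index hMc h.1⟩)
          have h1 := H.card_mul_index
          rw [h, hMc, pow_succ p (m + 1)] at h1
          exact Nat.eq_of_mul_eq_mul_left (pow_pos hpp.pos _) h1
        rw [he]
        exact maxOver_bot_modEq (hP.to_subgroup _) hb.1
  have hsum := Nat.ModEq.sum (s := Finset.univ) fun M _ => hM M
  rw [Finset.sum_add_distrib, Finset.sum_const, Finset.card_univ, smul_eq_mul,
    ← Nat.card_eq_fintype_card, Finset.sum_ite, Finset.sum_const_zero, add_zero, Finset.sum_const,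
    smul_eq_mul] at hsum
  have hcb : p ∣ (Finset.univ.filter bad).card := by
    by_cases h4 : k + 1 < m + 2 ∧ p = 2
    · obtain ⟨hk2, rfl⟩ := h4
      obtain ⟨m', rfl⟩ : ∃ m', m = m' + 1 := ⟨m - 1, by omega⟩
      have hsplit : Finset.univ.filter bad =
          (Finset.univ.filter fun M : MaxOver 2 (⊥ : Subgroup G) => IsCyclic M.1) ∪
          (Finset.univ.filter fun M : MaxOver 2 (⊥ : Subgroup G) => (commutator M.1).index = 4) := by
        ext M; simp [hbad, hk2]
      rw [hsplit, Finset.card_union_of_disjoint]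
      · refine dvd_add ?_ ?_
        · rw [← Fintype.card_subtype, ← Nat.card_eq_fintype_card]
          exact dvd_card_cyclic_maxOver hP hnc hG h2
        · rw [← Fintype.card_subtype, ← Nat.card_eq_fintype_card]
          exact even_card_maxClass_maxOver hG hnc (h2 rfl)
      · rw [Finset.disjoint_filter]
        intro M _ hc hd
        have : commutator M.1 = ⊥ := by
          rw [eq_bot_iff, commutator_def, Subgroup.commutator_le]
          exact fun a _ b _ => Subgroup.mem_bot.mpr (commutatorElement_eq_one_iff_mul_comm.mpr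
            (hc.isMulCommutative.is_comm.comm a b))
        rw [this, Subgroup.index_bot, card_eq_of_index hG M.2.1] at hd
        have := Nat.pow_right_injective le_rfl (hd.trans (show (4 : ℕ) = 2 ^ 2 from rfl))
        omega
    · have hsplit : Finset.univ.filter bad =
          Finset.univ.filter fun M : MaxOver p (⊥ : Subgroup G) => IsCyclic M.1 := by
        ext M
        simp only [Finset.mem_filter, Finset.mem_univ, true_and, hbad]
        exact ⟨fun h => h.elim id fun h => absurd ⟨h.1, h.2.1⟩ h4, Or.inl⟩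
      rw [hsplit, ← Fintype.card_subtype, ← Nat.card_eq_fintype_card]
      exact dvd_card_cyclic_maxOver hP hnc hG h2
  obtain ⟨c, hc⟩ := hcb
  rw [hc] at hsum
  -- conclude
  have hz : p * c * p ≡ 0 [MOD p ^ 2] :=
    (Nat.modEq_zero_iff_dvd).mpr ⟨c, by ring⟩
  set Sm := ∑ M : MaxOver p (⊥ : Subgroup G), cnt M.1 (p ^ k)
  set St := ∑ K : TwoOver p (⊥ : Subgroup G), cnt K.1 (p ^ k)
  have h1 : Sm ≡ Nat.card (MaxOver p (⊥ : Subgroup G)) * (1 + p) [MOD p ^ 2] :=
    (((Nat.ModEq.add_left Sm hz).symm).trans hsum).trans (Nat.ModEq.refl _)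
  have h3 : cnt G (p ^ k) + p ≡ (1 + p) * (1 + p) [MOD p ^ 2] :=
    ((Nat.ModEq.add_left _ htwo).symm.trans hid).trans
      (h1.trans ((maxOver_bot_modEq hP hnc).mul_right _))
  have h4 : (1 + p) * (1 + p) ≡ (1 + p) + p [MOD p ^ 2] := by
    have : (1 + p) * (1 + p) = (1 + p) + p + p ^ 2 * 1 := by ring
    rw [this]
    exact Nat.add_mul_mod_self_left _ _ _
  exact Nat.ModEq.add_right_cancel' p (h3.trans h4)

end Cfsg.Agent.Lib.SubgroupCountSq
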